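import Cfsg.Agent.BpExc.NChev
import Cfsg.Agent.BpExc.RowsUntw

/-!
# Fusion of toral elements of the fixed points of a frame automorphism

`Y = D.group k` (`k` algebraically closed of characteristic `r`, locally finite), `σ` a frame automorphism
(`IsFrob r e σ`, `Fr … σ g`).

* `fr_ch` : `ch (g a) (σ t) = ch a t ^ r ^ e` on the torus;
* `ext_TT` : elements of the torus are determined by the characters;
* `torus_lang` : Lang's theorem for the torus;
* `exists_fixed_rp` : elements of the Weyl group commuting with the action on the roots have fixed representatives;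
* `frame_of_toral` : a toral fixed element is `z t z⁻¹` with `t` in the torus and `k = z⁻¹ σ(z) ∈ N`;
* `real_of_neg`, `conj_pow` : the fixed elements of prime order `≠ r` are conjugate under the fixed points of `σ` to
  their inverses (when `-1` is in the Weyl group), to their `± r ^ e`-th powers (when `g` is `±` an element of the
  Weyl group).
-/

set_option autoImplicit false
set_option linter.unusedSectionVars false

namespace Cfsg.Agent.H696.GmnToral

open CoxeterSystem Cfsg Cfsg.Lie Cfsg.Lie.ChevalleyDatum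
open Cfsg.Agent.ChevalleyStructure Cfsg.Agent.ChevalleyStructure.Elts Cfsg.Agent.ChevalleyStructure.CoxeterGeom
  Cfsg.Agent.ChevalleyStructure.CoxeterGeomTypes Cfsg.Agent.ChevalleyStructure.NPerm
open Cfsg.Agent.Tits.Roots Cfsg.Agent.Tits.Core Cfsg.Agent.Nodes Cfsg.Agent.Nodes.Reps Cfsg.Agent.Nodes.BNOf
  Cfsg.Agent.Nodes.RGDChev Cfsg.Agent.Nodes.Bruhat
open Cfsg.Agent.KFacts.RgdField Cfsg.Agent.KFacts.RgdChevCoord
open Cfsg.Agent.BpExc Cfsg.Agent.BpExc.TorCent Cfsg.Agent.BpExc.TorChev Cfsg.Agent.BpExc.Tow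
open Cfsg.Agent.BpExc.TowChev Cfsg.Agent.BpExc.Fr Cfsg.Agent.BpExc.LangFr Cfsg.Agent.BpExc.HX
open Cfsg.Agent.BpExc.NChev Cfsg.Agent.BpExc.NInst Cfsg.Agent.BpExc.Pair
open scoped commutatorElement

universe u v

variable {D : ChevalleyDatum} {l : ℕ} {M : CoxeterMatrix (Fin l)} (hp : IsType D l M) {k : Type u} [Field k]
  {W : Type v} [Group W] (cs : CoxeterSystem M W) {r : ℕ} [Fact r.Prime] [CharP k r]

/-! ### characters -/

section Char

variable [IsAlgClosed k] (hk : LocFin k)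

include hk cs in
theorem ch_mul (r : ℕ) [Fact r.Prime] [CharP k r] {a : Fin l → ℤ} (ha : IsRoot cs hp.isCartan a) {s t : ↥(D.group k)} (hs : s ∈ TT D k)
    (ht : t ∈ TT D k) : ch hp a (s * t) = ch hp a s * ch hp a t :=
  ((coordsL hp cs hk r).coord a ha).chi_mul hs ht

include hk cs in
theorem ch_ne_zero (r : ℕ) [Fact r.Prime] [CharP k r] {a : Fin l → ℤ} (ha : IsRoot cs hp.isCartan a) {t : ↥(D.group k)}
    (ht : t ∈ TT D k) : ch hp a t ≠ 0 := ((coordsL hp cs hk r).coord a ha).chi_ne_zero ht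

include hk cs in
theorem ch_one (r : ℕ) [Fact r.Prime] [CharP k r] {a : Fin l → ℤ} (ha : IsRoot cs hp.isCartan a) :
    ch hp a (1 : ↥(D.group k)) = 1 := by
  have h1 := ch_mul hp cs hk r ha (one_mem (TT D k)) (one_mem _)
  rw [mul_one] at h1
  exact (mul_eq_left₀ (ch_ne_zero hp cs hk r ha (one_mem _))).1 h1.symm

include hk cs in
theorem ch_inv (r : ℕ) [Fact r.Prime] [CharP k r] {a : Fin l → ℤ} (ha : IsRoot cs hp.isCartan a) {t : ↥(D.group k)}
    (ht : t ∈ TT D k) : ch hp a t⁻¹ = (ch hp a t)⁻¹ := by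
  have h1 := ch_mul hp cs hk r ha ht (inv_mem ht)
  rw [mul_inv_cancel, ch_one hp cs hk r ha] at h1
  exact (eq_inv_of_mul_eq_one_right h1.symm)

include hk cs in
theorem ch_pow (r : ℕ) [Fact r.Prime] [CharP k r] {a : Fin l → ℤ} (ha : IsRoot cs hp.isCartan a) {t : ↥(D.group k)}
    (ht : t ∈ TT D k) (m : ℕ) : ch hp a (t ^ m) = ch hp a t ^ m := by
  induction m with
  | zero => rw [pow_zero, pow_zero, ch_one hp cs hk r ha]
  | succ m ih => rw [pow_succ, pow_succ, ch_mul hp cs hk r ha (pow_mem ht m) ht, ih]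

include hk cs in
theorem ch_zpow (r : ℕ) [Fact r.Prime] [CharP k r] {a : Fin l → ℤ} (ha : IsRoot cs hp.isCartan a) {t : ↥(D.group k)}
    (ht : t ∈ TT D k) (m : ℤ) : ch hp a (t ^ m) = ch hp a t ^ m := by
  obtain ⟨m, rfl | rfl⟩ := m.eq_nat_or_neg
  · rw [zpow_natCast, zpow_natCast, ch_pow hp cs hk r ha ht]
  · rw [zpow_neg, zpow_neg, zpow_natCast, zpow_natCast, ch_inv hp cs hk r ha (pow_mem ht m), ch_pow hp cs hk r ha ht]

include hk in
theorem ch_neg (r : ℕ) [Fact r.Prime] [CharP k r] {a : Fin l → ℤ} (ha : IsRoot cs hp.isCartan a) {t : ↥(D.group k)}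
    (ht : t ∈ TT D k) : ch hp (-a) t = (ch hp a t)⁻¹ := by
  obtain ⟨φ, h0, hadd, hφ⟩ := chAddL hp cs hk r t ht
  have h1 := hadd (-a) a
  rw [neg_add_cancel, h0, ← hφ a ha, ← hφ _ ha.neg] at h1
  exact eq_inv_of_mul_eq_one_left h1.symm

include hk cs in
theorem ch_comm (r : ℕ) [Fact r.Prime] [CharP k r] {a : Fin l → ℤ} (ha : IsRoot cs hp.isCartan a) {t : ↥(D.group k)}
    (ht : t ∈ TT D k) (s : k) : t * xc hp a s * t⁻¹ = xc hp a (ch hp a t * s) :=
  ((coordsL hp cs hk r).coord a ha).act t ht s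

include hk cs in
/-- The torus is separated by the characters. -/
theorem eq_one_TT (r : ℕ) [Fact r.Prime] [CharP k r] (hZ : Subgroup.center ↥(D.group k) = ⊥) {t : ↥(D.group k)} (ht : t ∈ TT D k)
    (h : ∀ a, IsRoot cs hp.isCartan a → ch hp a t = 1) : t = 1 := by
  have h1 : ∀ g : ↥(D.group k), t * g = g * t := by
    intro g
    refine FamExt.group_induction hp (P := fun g => t * g = g * t) (by rw [mul_one, one_mul]) ?_ ?_ ?_ g
    · intro a b ha hb
      rw [← mul_assoc, ha, mul_assoc, hb, mul_assoc]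
    · intro a ha
      rw [mul_inv_eq_iff_eq_mul, mul_assoc, ha, inv_mul_cancel_left]
    · intro s hs x
      have hr : IsRoot cs hp.isCartan (vec D l s) := (isRoot_iff hp cs _).2 ⟨s, hs, rfl⟩
      have h2 := ch_comm hp cs hk r hr ht x
      rw [h _ hr, one_mul, mul_inv_eq_iff_eq_mul] at h2
      exact h2
  have h2 : t ∈ Subgroup.center ↥(D.group k) := Subgroup.mem_center_iff.2 fun g => (h1 g).symm
  rw [hZ] at h2
  exact h2

include hk cs in
theorem ext_TT (r : ℕ) [Fact r.Prime] [CharP k r] (hZ : Subgroup.center ↥(D.group k) = ⊥) {s t : ↥(D.group k)} (hs : s ∈ TT D k)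
    (ht : t ∈ TT D k) (h : ∀ a, IsRoot cs hp.isCartan a → ch hp a s = ch hp a t) : s = t := by
  have h1 : s⁻¹ * t = 1 := by
    refine eq_one_TT hp cs hk r hZ (mul_mem (inv_mem hs) ht) fun a ha => ?_
    rw [ch_mul hp cs hk r ha (inv_mem hs) ht, ch_inv hp cs hk r ha hs, h a ha,
      inv_mul_cancel₀ (ch_ne_zero hp cs hk r ha ht)]
  exact (inv_mul_eq_one.1 h1)

include hk in
/-- **Action of a frame automorphism on the characters.** -/
theorem fr_ch {e : ℕ} {σ : MulAut ↥(D.group k)} {g : (Fin l → ℤ) ≃+ (Fin l → ℤ)} (hσ : IsFrob r e σ)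
    (F : Fr cs hp.isCartan (TT D k) (XX D l k) σ g) {a : Fin l → ℤ} (ha : IsRoot cs hp.isCartan a)
    {t : ↥(D.group k)} (ht : t ∈ TT D k) : ch hp (g a) (σ t) = ch hp a t ^ r ^ e := by
  obtain ⟨c, hc, h⟩ := fr_xc hp cs hσ F ha
  have hga := (F.root a).2 ha
  have hσt := (F.tor t).2 ht
  have C := (coordsL hp cs hk r (k := k)).coord _ hga
  have h1 := congrArg σ (ch_comm hp cs hk r ha ht 1)
  rw [map_mul, map_mul, map_inv, h, h, ch_comm hp cs hk r hga hσt] at h1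
  have h2 := C.inj h1
  rw [one_pow, mul_one, mul_one, mul_comm] at h2
  exact mul_left_cancel₀ hc h2

end Char

/-! ### Lang's theorem for the torus -/

section Lang

variable [IsAlgClosed k] (hk : LocFin k) (hZ : Subgroup.center ↥(D.group k) = ⊥)

include hp cs hk hZ in
/-- The torus is divisible. -/
theorem divisible (r : ℕ) [Fact r.Prime] [CharP k r] {n : ℕ} (hn : 0 < n) {t : ↥(D.group k)} (ht : t ∈ TT D k) :
    ∃ v ∈ TT D k, v ^ n = t := by
  refine Subgroup.closure_induction (p := fun t _ => ∃ v ∈ TT D k, v ^ n = t) ?_ ?_ ?_ ?_ (TT_le hp ht)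
  · rintro _ ⟨j, c, hc0, rfl⟩
    obtain ⟨b, hb⟩ := IsAlgClosed.exists_pow_nat_eq c hn
    have hb0 : b ≠ 0 := by
      rintro rfl
      rw [zero_pow hn.ne'] at hb
      exact hc0 hb.symm
    refine ⟨hc hp j b, hc_mem hp j hb0, ?_⟩
    refine ext_TT hp cs hk r hZ (pow_mem (hc_mem hp j hb0) n) (hc_mem hp j hc0) fun a ha => ?_
    rw [ch_pow hp cs hk r ha (hc_mem hp j hb0)]
    obtain ⟨s, hs, rfl⟩ := (isRoot_iff hp cs a).1 ha
    rw [ch_hc hp j hb0 hs, ch_hc hp j hc0 hs, ← hb, ← zpow_natCast, ← zpow_natCast, ← zpow_mul, ← zpow_mul, mul_comm]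
  · exact ⟨1, one_mem _, one_pow n⟩
  · rintro _ _ _ _ ⟨v, hv, rfl⟩ ⟨w, hw, rfl⟩
    refine ⟨v * w, mul_mem hv hw, ?_⟩
    exact (show Commute v w from TT_comm hp v hv w hw).mul_pow n
  · rintro _ _ ⟨v, hv, rfl⟩
    exact ⟨v⁻¹, inv_mem hv, inv_pow v n⟩

include hp cs hk hZ in
/-- **Lang's theorem for the torus.** -/
theorem torus_lang {e : ℕ} (he : 0 < e) {σ : MulAut ↥(D.group k)} {g : (Fin l → ℤ) ≃+ (Fin l → ℤ)}
    (hσ : IsFrob r e σ) (F : Fr cs hp.isCartan (TT D k) (XX D l k) σ g) {s : ↥(D.group k)} (hs : s ∈ TT D k) :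
    ∃ u ∈ TT D k, s = u⁻¹ * σ u := by
  have := finite_W hp cs
  obtain ⟨N, hN, hper⟩ := NInst.exists_period F
  obtain ⟨g', F', hg'⟩ := F.pow N
  have hσN : ∀ t ∈ TT D k, (σ ^ N) t = t ^ r ^ (N * e) := by
    intro t ht
    refine ext_TT hp cs hk r hZ ((F'.tor t).2 ht) (pow_mem ht _) fun a ha => ?_
    have h1 := fr_ch hp cs hk (hσ.pow N) F' ha ht
    rw [hg' a, hper a ha] at h1
    rw [h1, ch_pow hp cs hk r ha ht]
  have hq : 1 < r ^ (N * e) := Nat.one_lt_pow (Nat.mul_pos hN he).ne' (Fact.out : r.Prime).one_lt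
  obtain ⟨v, hv, hvs⟩ := divisible hp cs hk hZ r (Nat.sub_pos_of_lt hq) hs
  have hvi : ∀ i, (σ ^ i) v ∈ TT D k := by
    intro i
    obtain ⟨g'', F'', -⟩ := F.pow i
    exact (F''.tor v).2 hv
  have hu : NInst.op σ v N ∈ TT D k := NInst.op_mem fun j _ => hvi j
  refine ⟨NInst.op σ v N, hu, ?_⟩
  have h1 := NInst.op_succ σ v N
  rw [NInst.op_succ' σ v N] at h1
  have h2 : σ (NInst.op σ v N) = v⁻¹ * (NInst.op σ v N * (σ ^ N) v) := by rw [← h1, inv_mul_cancel_left]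
  rw [h2, hσN v hv]
  have h3 : v ^ r ^ (N * e) = v * s := by
    rw [← hvs, ← pow_succ', Nat.sub_add_cancel hq.le]
  rw [h3]
  have h4 := TT_comm hp _ hu _ (inv_mem hv)
  calc s = v⁻¹ * v * s := by group
    _ = (NInst.op σ v N)⁻¹ * (NInst.op σ v N * v⁻¹) * v * s := by group
    _ = _ := by rw [h4]; group

end Lang

/-! ### fixed representatives -/

section Rep

variable [IsAlgClosed k] (hk : LocFin k)

include hk in
theorem XX_injective (r : ℕ) [Fact r.Prime] [CharP k r] {a b : Fin l → ℤ} (ha : IsRoot cs hp.isCartan a)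
    (hb : IsRoot cs hp.isCartan b) {u : ↥(D.group k)} (hu : u ≠ 1) (hua : u ∈ XX D l k a) (hub : u ∈ XX D l k b) :
    a = b := by
  have := finite_W hp cs
  by_contra hab
  have H := tow hp cs hk r
  rw [← XL_eq hp hk] at hua hub
  obtain ⟨j, hj⟩ := H.mem_XL.1 hua
  obtain ⟨j', hj'⟩ := H.mem_XL.1 hub
  obtain ⟨i, hi, hi'⟩ := H.dir j j'
  have h1 := OppDec.X_inf_X (H.rgd i) ha hb hab
  apply hu
  rw [← Subgroup.mem_bot, ← h1]
  exact ⟨H.monoX a hi hj, H.monoX b hi' hj'⟩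

theorem XX_ne {a : Fin l → ℤ} (ha : IsRoot cs hp.isCartan a) : ∃ u ∈ XX D l k a, u ≠ 1 := by
  obtain ⟨s, hs, rfl⟩ := (isRoot_iff hp cs a).1 ha
  refine ⟨xc hp (vec D l s) 1, (mem_XX_xc hp hs).2 ⟨1, rfl⟩, fun h => ?_⟩
  have h0 : xc hp (vec D l s) (0 : k) = 1 := by
    apply Subtype.ext
    rw [coe_xc hp hs, xG_zero]
    rfl
  rw [← h0] at h
  exact one_ne_zero (xc_inj hp hs h)

theorem rep_faithful [Finite W] {w w' : W} (h : ∀ a, IsRoot cs hp.isCartan a →
    rep cs hp.isCartan w a = rep cs hp.isCartan w' a) : w = w' := by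
  by_contra hne
  have h1 : w'⁻¹ * w ≠ 1 := fun h => hne (inv_mul_eq_one.1 h).symm
  obtain ⟨i, hi⟩ := FamCent.exists_nonpos (cs := cs) (h := hp.isCartan) h1
  rw [rep_mul_apply, h _ (isRoot_sr cs hp.isCartan i), ← rep_mul_apply, inv_mul_cancel, map_one,
    Module.End.one_apply] at hi
  have h2 : (1 : ℤ) ≤ 0 := by
    have := hi i
    simp [sr] at this
  omega

include hk in
/-- The action on the roots of two frame automorphisms whose quotient is inner. -/
theorem rep_of_fr (r : ℕ) [Fact r.Prime] [CharP k r] {σ : MulAut ↥(D.group k)} {g g' : (Fin l → ℤ) ≃+ (Fin l → ℤ)} {n : ↥(D.group k)}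
    (F : Fr cs hp.isCartan (TT D k) (XX D l k) σ g)
    (F' : Fr cs hp.isCartan (TT D k) (XX D l k) (MulAut.conj n * σ) g') :
    ∃ w : W, Rp cs (tow hp cs hk r (k := k)).nsys w n ∧ ∀ a, IsRoot cs hp.isCartan a →
      g' a = rep cs hp.isCartan w (g a) := by
  have := finite_W hp cs
  have hTL := TL_eq hp hk
  have hXL := XL_eq hp hk
  have F1 := F'.mul F.inv
  have e1 : MulAut.conj n * σ * σ⁻¹ = MulAut.conj n := by group
  rw [e1] at F1
  obtain ⟨w, hw⟩ := rp_of_normalizer (tow hp cs hk r) (GG_eq_top hp cs hk) (fun a ha => by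
      rw [hTL, hXL]; exact sep hp cs hk r ha) (y := n) (fun s => by rw [hTL]; exact F1.tor s)
  refine ⟨w, hw, fun a ha => ?_⟩
  have hga := (F.root a).2 ha
  obtain ⟨u, hu, hu1⟩ := XX_ne hp cs (k := k) hga
  have F2 := Fr.conj (tow hp cs hk r) hw
  rw [hTL, hXL] at F2
  have h1 := (F2.map _ hga u).2 hu
  have h2 := (F1.map _ hga u).2 hu
  refine XX_injective hp cs hk r ((F'.root a).2 ha) (hga.act w) (u := MulAut.conj n u) ?_ ?_ h1
  · intro h3
    exact hu1 ((MulAut.conj n).injective (h3.trans (map_one _).symm))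
  · have h3 : (g.symm.trans g') (g a) = g' a := by
      show g' (g.symm (g a)) = g' a
      rw [AddEquiv.symm_apply_apply]
    rw [← h3]
    exact h2

include hk in
/-- **Fixed representatives.** -/
theorem exists_fixed_rp (hZ : Subgroup.center ↥(D.group k) = ⊥) {e : ℕ} (he : 0 < e) {σ : MulAut ↥(D.group k)}
    {g : (Fin l → ℤ) ≃+ (Fin l → ℤ)} (hσ : IsFrob r e σ) (F : Fr cs hp.isCartan (TT D k) (XX D l k) σ g) {w : W}
    (hw : ∀ a, IsRoot cs hp.isCartan a → rep cs hp.isCartan w (g a) = g (rep cs hp.isCartan w a)) :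
    ∃ n, Rp cs (tow hp cs hk r (k := k)).nsys w n ∧ σ n = n := by
  have := finite_W hp cs
  have hTL := TL_eq hp hk
  have hXL := XL_eq hp hk
  have H := tow hp cs hk r (k := k)
  obtain ⟨n, -, hn⟩ := H.exists_rp w
  have F' : Fr cs hp.isCartan (TL (Tj hp (k := k))) (XL (Xj hp (k := k))) σ g := by rw [hTL, hXL]; exact F
  obtain ⟨w', hw'⟩ := rp_fr H (GG_eq_top hp cs hk) (fun a ha => by rw [hTL, hXL]; exact sep hp cs hk r ha) F' hn
  have F1 := Fr.conj H hn
  have F2 := Fr.conj H hw'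
  rw [hTL, hXL] at F1 F2
  have e1 : w' = w := by
    refine rep_faithful hp cs fun b hb => ?_
    obtain ⟨a, rfl⟩ := g.surjective b
    have ha := (F.root a).1 hb
    obtain ⟨u, hu, hu1⟩ := XX_ne hp cs (k := k) ha
    have h1 := (F.map _ (ha.act w) _).2 ((F1.map _ ha u).2 hu)
    have h2 := (F2.map _ hb _).2 ((F.map _ ha u).2 hu)
    have e2 : MulAut.conj (σ n) (σ u) = σ (MulAut.conj n u) := by
      rw [MulAut.conj_apply, MulAut.conj_apply, map_mul, map_mul, map_inv]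
    rw [e2] at h2
    rw [hw a ha]
    refine XX_injective hp cs hk r (hb.act w') ((F.root _).2 (ha.act w)) (u := σ (MulAut.conj n u)) ?_ h2 h1
    intro h3
    apply hu1
    apply (MulAut.conj n).injective
    apply σ.injective
    rw [h3, map_one, map_one]
  rw [e1] at hw'
  have h1 : n⁻¹ * σ n ∈ TT D k := by rw [← hTL]; exact hn.unique hw'
  obtain ⟨u, hu, hus⟩ := torus_lang hp cs hk hZ he hσ F (inv_mem h1)
  refine ⟨n * u, hn.mul_mem_right (by rw [hTL]; exact hu), ?_⟩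
  rw [map_mul]
  have h2 : σ u = u * (n⁻¹ * σ n)⁻¹ := by rw [hus]; group
  have h3 := TT_comm hp _ hu _ (inv_mem h1)
  rw [h2, h3]
  group

end Rep

/-! ### toral elements -/

section Toral

variable [IsAlgClosed k] (hk : LocFin k)

include hk in
theorem frame_of_toral {e : ℕ} (he : 0 < e) {σ : MulAut ↥(D.group k)} {g : (Fin l → ℤ) ≃+ (Fin l → ℤ)}
    (hσ : IsFrob r e σ) (Fσ : Fr cs hp.isCartan (TT D k) (XX D l k) σ g) {x : ↥(D.group k)} (hσx : σ x = x)
    {z : ↥(D.group k)} (hz : z⁻¹ * x * z ∈ TT D k) :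
    ∃ (z' t n : ↥(D.group k)) (g' : (Fin l → ℤ) ≃+ (Fin l → ℤ)) (w : W),
      t ∈ TT D k ∧ z'⁻¹ * x * z' = t ∧ z'⁻¹ * σ z' = n ∧ IsFrob r e (MulAut.conj n * σ) ∧
      Fr cs hp.isCartan (TT D k) (XX D l k) (MulAut.conj n * σ) g' ∧ (MulAut.conj n * σ) t = t ∧
      Rp cs (tow hp cs hk r (k := k)).nsys w n ∧
      ∀ a, IsRoot cs hp.isCartan a → g' a = rep cs hp.isCartan w (g a) := by
  have := finite_W hp cs
  have hTL := TL_eq hp hk
  have hXL := XL_eq hp hk
  have C := coordsL hp cs hk r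
  have hA := chAddL hp cs hk r
  have hG := GG_eq_top hp cs hk
  have Fσ' : Fr cs hp.isCartan (TL (Tj hp (k := k))) (XL (Xj hp (k := k))) σ g := by rw [hTL, hXL]; exact Fσ
  set t : ↥(D.group k) := z⁻¹ * x * z with ht
  have ht' : t ∈ TL (Tj hp (k := k)) := by rw [hTL]; exact hz
  have C' : Coords cs hp.isCartan (TL (Tj hp (k := k))) (nc hp k) (XL (Xj hp (k := k))) (xc hp) (ch hp) := by
    rw [hTL, hXL]; exact C
  have hA' : ChAdd cs hp.isCartan (TL (Tj hp (k := k))) (ch (K := k) hp) := by rw [hTL]; exact hA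
  obtain ⟨z', k', g', h1, h2, h3, h4, h5⟩ := pair_reduction (tow hp cs hk r) C' hA' hG Fσ' hσx (z := z) (t := t)
    rfl ht' (fun k' g' F' htt m hm => by
      have h1 := fun a => F'.mem_Sx C' ht' htt a
      rw [hTL, hXL] at F'
      rw [hXL] at hm ⊢
      exact lang_fr hp cs he (hσ.conj_mul k') F' (S := Sx cs hp.isCartan (ch hp) t) (fun a ha => ha.1)
        (fun a ha => (h1 a).2 ha) hm)
  rw [hTL, hXL] at h3
  obtain ⟨w, hw, hwa⟩ := rep_of_fr hp cs hk r Fσ h3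
  exact ⟨z', t, k', g', w, hz, h1, h2, hσ.conj_mul k', h3, h4, hw, hwa⟩

include hk in
/-- **Fusion of toral elements.** -/
theorem exists_conj_zpow (hZ : Subgroup.center ↥(D.group k) = ⊥) {e : ℕ} (he : 0 < e) {σ : MulAut ↥(D.group k)}
    {g : (Fin l → ℤ) ≃+ (Fin l → ℤ)} (hσ : IsFrob r e σ) (Fσ : Fr cs hp.isCartan (TT D k) (XX D l k) σ g)
    {x : ↥(D.group k)} (hσx : σ x = x) {z : ↥(D.group k)} (hz : z⁻¹ * x * z ∈ TT D k) (m : ℤ)
    (hg : ∀ w₁ : W, ∃ w : W, (∀ a, IsRoot cs hp.isCartan a →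
      rep cs hp.isCartan w (rep cs hp.isCartan w₁ (g a)) = rep cs hp.isCartan w₁ (g (rep cs hp.isCartan w a))) ∧
      ∀ t ∈ TT D k, (∀ a, IsRoot cs hp.isCartan a →
        ch hp (rep cs hp.isCartan w₁ (g a)) t = ch hp a t ^ r ^ e) → ∀ a, IsRoot cs hp.isCartan a →
        ch hp (rep cs hp.isCartan w a) t = ch hp a t ^ m) :
    ∃ y, σ y = y ∧ y⁻¹ * x * y = x ^ m := by
  have hTL := TL_eq hp hk
  have hXL := XL_eq hp hk
  have H := tow hp cs hk r (k := k)
  obtain ⟨z', t, n, g', w₁, ht, h1, h2, hF, F', htt, hw₁, hw₁a⟩ := frame_of_toral hp cs hk he hσ Fσ hσx hz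
  obtain ⟨w, hwc, hwt⟩ := hg w₁
  obtain ⟨n', hn', hn'f⟩ := exists_fixed_rp hp cs hk hZ he hF F' (w := w) (fun a ha => by
    rw [hw₁a a ha, hwc a ha, hw₁a _ (ha.act w)])
  have h3 : ∀ a, IsRoot cs hp.isCartan a → ch hp (rep cs hp.isCartan w₁ (g a)) t = ch hp a t ^ r ^ e := by
    intro a ha
    rw [← hw₁a a ha]
    have := fr_ch hp cs hk hF F' ha ht
    rwa [htt] at this
  have h4 := hwt t ht h3
  have h5 : n'⁻¹ * t * n' ∈ TT D k := by
    have := (Subgroup.mem_normalizer_iff.1 hn'.inv.mem_normalizer t).1 (by rw [hTL]; exact ht)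
    rw [inv_inv, hTL] at this
    exact this
  have h6 : n'⁻¹ * t * n' = t ^ m := by
    refine ext_TT hp cs hk r hZ h5 (zpow_mem ht m) fun a ha => ?_
    have C : Coords cs hp.isCartan (TL (Tj hp (k := k))) (nc hp k) (XL (Xj hp (k := k))) (xc hp) (ch hp) := by
      rw [hTL, hXL]; exact coordsL hp cs hk r
    have h7 := C.chi_rp H.nsys hn' ha (t := n'⁻¹ * t * n') (by rw [hTL]; exact h5)
    have e1 : n' * (n'⁻¹ * t * n') * n'⁻¹ = t := by group
    rw [e1] at h7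
    rw [← h7, h4 a ha, ch_zpow hp cs hk r ha ht]
  refine ⟨z' * n' * z'⁻¹, ?_, ?_⟩
  · have h8 : σ z' = z' * n := by rw [← h2]; group
    have h9 : n * σ n' * n⁻¹ = n' := hn'f
    rw [map_mul, map_mul, map_inv, h8]
    calc z' * n * σ n' * (z' * n)⁻¹ = z' * (n * σ n' * n⁻¹) * z'⁻¹ := by group
      _ = _ := by rw [h9]
  · have h8 : x = z' * t * z'⁻¹ := by rw [← h1]; group
    calc (z' * n' * z'⁻¹)⁻¹ * x * (z' * n' * z'⁻¹) = z' * (n'⁻¹ * t * n') * z'⁻¹ := by rw [h8]; group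
      _ = z' * t ^ m * z'⁻¹ := by rw [h6]
      _ = (z' * t * z'⁻¹) ^ m := (conj_zpow).symm
      _ = x ^ m := by rw [← h8]

include hk in
/-- `-1 ∈ W` : toral fixed elements are real. -/
theorem real_of_neg (hZ : Subgroup.center ↥(D.group k) = ⊥) {e : ℕ} (he : 0 < e) {σ : MulAut ↥(D.group k)}
    {g : (Fin l → ℤ) ≃+ (Fin l → ℤ)} (hσ : IsFrob r e σ) (Fσ : Fr cs hp.isCartan (TT D k) (XX D l k) σ g)
    {x : ↥(D.group k)} (hσx : σ x = x) {z : ↥(D.group k)} (hz : z⁻¹ * x * z ∈ TT D k)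
    (hneg : ∃ w : W, ∀ a, IsRoot cs hp.isCartan a → rep cs hp.isCartan w a = -a) :
    ∃ y, σ y = y ∧ y⁻¹ * x * y = x⁻¹ := by
  obtain ⟨w, hw⟩ := hneg
  obtain ⟨y, hy1, hy2⟩ := exists_conj_zpow hp cs hk hZ he hσ Fσ hσx hz (-1) (fun w₁ => ⟨w, fun a ha => by
    have hga := (Fσ.root a).2 ha
    rw [hw a ha, hw _ (hga.act w₁), map_neg, map_neg], fun t ht _ a ha => by
    rw [hw a ha, ch_neg hp cs hk r ha ht, zpow_neg_one]⟩)
  exact ⟨y, hy1, by rw [hy2, zpow_neg_one]⟩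

include hk in
/-- `g` is an element of `W`: toral fixed elements are conjugate to their `r ^ e`-th powers. -/
theorem conj_pow_of_mem (hZ : Subgroup.center ↥(D.group k) = ⊥) {e : ℕ} (he : 0 < e) {σ : MulAut ↥(D.group k)}
    {g : (Fin l → ℤ) ≃+ (Fin l → ℤ)} (hσ : IsFrob r e σ) (Fσ : Fr cs hp.isCartan (TT D k) (XX D l k) σ g)
    {x : ↥(D.group k)} (hσx : σ x = x) {z : ↥(D.group k)} (hz : z⁻¹ * x * z ∈ TT D k)
    (hg : ∃ v : W, ∀ a, IsRoot cs hp.isCartan a → g a = rep cs hp.isCartan v a) :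
    ∃ y, σ y = y ∧ y⁻¹ * x * y = x ^ ((r : ℤ) ^ e) := by
  obtain ⟨v, hv⟩ := hg
  refine exists_conj_zpow hp cs hk hZ he hσ Fσ hσx hz _ (fun w₁ => ⟨w₁ * v, fun a ha => ?_, fun t ht h a ha => ?_⟩)
  · rw [hv a ha, hv _ (ha.act _), rep_mul_apply, rep_mul_apply]
  · rw [rep_mul_apply, ← hv a ha, h a ha]
    push_cast [← zpow_natCast]
    rfl

include hk in
/-- `-g` is an element of `W`: toral fixed elements are conjugate to their `- r ^ e`-th powers. -/
theorem conj_pow_of_neg_mem (hZ : Subgroup.center ↥(D.group k) = ⊥) {e : ℕ} (he : 0 < e) {σ : MulAut ↥(D.group k)}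
    {g : (Fin l → ℤ) ≃+ (Fin l → ℤ)} (hσ : IsFrob r e σ) (Fσ : Fr cs hp.isCartan (TT D k) (XX D l k) σ g)
    {x : ↥(D.group k)} (hσx : σ x = x) {z : ↥(D.group k)} (hz : z⁻¹ * x * z ∈ TT D k)
    (hg : ∃ v : W, ∀ a, IsRoot cs hp.isCartan a → g a = - rep cs hp.isCartan v a) :
    ∃ y, σ y = y ∧ y⁻¹ * x * y = x ^ (-(r : ℤ) ^ e) := by
  obtain ⟨v, hv⟩ := hg
  refine exists_conj_zpow hp cs hk hZ he hσ Fσ hσx hz _ (fun w₁ => ⟨w₁ * v, fun a ha => ?_, fun t ht h a ha => ?_⟩)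
  · rw [hv a ha, hv _ (ha.act _), rep_mul_apply, rep_mul_apply, map_neg, map_neg, map_neg]
  · have h1 : rep cs hp.isCartan w₁ (rep cs hp.isCartan v a) = -(rep cs hp.isCartan w₁ (g a)) := by
      rw [hv a ha, map_neg, neg_neg]
    rw [rep_mul_apply, h1, ch_neg hp cs hk r (((Fσ.root a).2 ha).act w₁) ht, h a ha, zpow_neg]
    push_cast [← zpow_natCast]
    rfl

end Toral

end Cfsg.Agent.H696.GmnToral
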