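import Cfsg.Agent.Characters.Core
import Cfsg.Agent.CharactersDeep.NormalInd
import Cfsg.Agent.Blocks.CliffordCentral
import Cfsg.Agent.S0158
import Cfsg.Agent.S0145
import Cfsg.Agent.S0174
import Cfsg.Agent.S0193

/-!
# Real-valued characters over a real-valued character of a normal subgroup of odd index

* `existsUnique_real`: `N ⊴ G` of odd index, `φ ∈ Irr(N)` real-valued: exactly one real-valued
  irreducible character of `G` lies over `φ`.
* `indicator_real`: that character has the Frobenius–Schur indicator of `φ` and its restriction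
  contains `φ` with multiplicity one.
-/

set_option autoImplicit false

namespace Cfsg.Agent.H696.OddIndex

open Cfsg Cfsg.Agent.Characters.Core Cfsg.Agent.CharactersDeep.NormalInd Representation
open scoped ComplexConjugate

/-- The Frobenius–Schur indicator. -/
noncomputable def fs {G : Type*} [Group G] [Fintype G] (χ : G → ℂ) : ℂ :=
  (Nat.card G : ℂ)⁻¹ * ∑ s : G, χ (s * s)

theorem mem_of_sq_mem {G : Type*} [Group G] (N : Subgroup G) [N.Normal] (hodd : Odd N.index)
    {g : G} (h : g * g ∈ N) : g ∈ N := by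
  obtain ⟨k, hk⟩ := hodd
  have h1 : g ^ N.index ∈ N := Subgroup.pow_index_mem N g
  rw [hk, pow_succ, pow_mul, pow_two] at h1
  exact (Subgroup.mul_mem_cancel_left N (N.pow_mem h k)).1 h1

theorem mem_of_isConj_inv {G : Type*} [Group G] (N : Subgroup G) [hN : N.Normal]
    (hodd : Odd N.index) {g n : G} (hn : n ∈ N) (h : IsConj (g * n) g⁻¹) : g ∈ N := by
  obtain ⟨c, hc⟩ := isConj_iff.1 h
  -- work in the quotient
  have h1 : ((c : G ⧸ N) * (g : G ⧸ N) * (c : G ⧸ N)⁻¹) = (g : G ⧸ N)⁻¹ := by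
    have h2 := congrArg (fun x : G => (x : G ⧸ N)) hc
    simp only [QuotientGroup.mk_mul, QuotientGroup.mk_inv] at h2
    rw [(QuotientGroup.eq_one_iff n).2 hn, mul_one] at h2
    exact h2
  have hfin : (Nat.card (G ⧸ N)) = N.index := rfl
  have h3 : ∀ k : ℕ, (c : G ⧸ N) ^ (2 * k) * (g : G ⧸ N) * ((c : G ⧸ N) ^ (2 * k))⁻¹
      = (g : G ⧸ N) := by
    intro k
    induction k with
    | zero => simp
    | succ k ih =>
      have h4 : (c : G ⧸ N) ^ (2 * (k + 1)) = (c : G ⧸ N) * ((c : G ⧸ N) * (c : G ⧸ N) ^ (2 * k)) := by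
        rw [show 2 * (k + 1) = 2 * k + 1 + 1 by ring, pow_succ', pow_succ']
      rw [h4]
      calc (c : G ⧸ N) * ((c : G ⧸ N) * (c : G ⧸ N) ^ (2 * k)) * (g : G ⧸ N) *
            ((c : G ⧸ N) * ((c : G ⧸ N) * (c : G ⧸ N) ^ (2 * k)))⁻¹
          = (c : G ⧸ N) * ((c : G ⧸ N) * ((c : G ⧸ N) ^ (2 * k) * (g : G ⧸ N) *
            ((c : G ⧸ N) ^ (2 * k))⁻¹) * (c : G ⧸ N)⁻¹) * (c : G ⧸ N)⁻¹ := by group
        _ = (c : G ⧸ N) * (g : G ⧸ N)⁻¹ * (c : G ⧸ N)⁻¹ := by rw [ih, h1]
        _ = ((c : G ⧸ N) * (g : G ⧸ N) * (c : G ⧸ N)⁻¹)⁻¹ := by group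
        _ = (g : G ⧸ N) := by rw [h1, inv_inv]
  obtain ⟨k, hk⟩ := hodd
  have hc1 : (c : G ⧸ N) ^ (2 * k + 1) = 1 := by
    rw [← hk]
    have := Subgroup.pow_index_mem N c
    rw [← QuotientGroup.mk_pow]
    exact (QuotientGroup.eq_one_iff _).2 this
  have hc2 : (c : G ⧸ N) ^ (2 * k) = (c : G ⧸ N)⁻¹ := by
    rw [pow_succ] at hc1
    exact eq_inv_of_mul_eq_one_left hc1
  have h5 := h3 k
  rw [hc2, inv_inv] at h5
  have h6 : (c : G ⧸ N) * (g : G ⧸ N) * (c : G ⧸ N)⁻¹ = (g : G ⧸ N) := by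
    calc (c : G ⧸ N) * (g : G ⧸ N) * (c : G ⧸ N)⁻¹
        = (c : G ⧸ N) * ((c : G ⧸ N)⁻¹ * (g : G ⧸ N) * (c : G ⧸ N)) * (c : G ⧸ N)⁻¹ := by rw [h5]
      _ = (g : G ⧸ N) := by group
  rw [h1] at h6
  have h7 : ((g * g : G) : G ⧸ N) = 1 := by
    rw [QuotientGroup.mk_mul]
    nth_rewrite 1 [← h6]
    exact inv_mul_cancel _
  exact mem_of_sq_mem N ⟨k, hk⟩ ((QuotientGroup.eq_one_iff _).1 h7)

/-- Induction from a normal subgroup of odd index preserves the Frobenius–Schur functional. -/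
theorem fs_indFun {G : Type*} [Group G] [Fintype G] (N : Subgroup G) [hN : N.Normal] [Fintype N]
    (hodd : Odd N.index) (φ : N → ℂ) : fs (indFun N φ) = fs φ := by
  classical
  have hG : (Nat.card G : ℂ) ≠ 0 := card_ne_zero_complex
  have hNc : (Nat.card N : ℂ) ≠ 0 := card_ne_zero_complex
  have h1 : ∑ g : G, indFun N φ (g * g) = ∑ n : N, indFun N φ ((n : G) * n) := by
    have h2 := sum_extendByZero N (fun n : N => indFun N φ ((n : G) * n))
    rw [← h2]
    refine Finset.sum_congr rfl fun g _ => ?_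
    by_cases hg : g ∈ N
    · rw [CharactersDeep.NormalInd.extendByZero_of_mem N _ hg]
    · rw [CharactersDeep.NormalInd.extendByZero_of_not_mem N _ hg]
      exact indFun_of_not_mem N φ (fun h => hg (mem_of_sq_mem N hodd h))
  have h3 : ∀ n : N, indFun N φ ((n : G) * n) = (Nat.card N : ℂ)⁻¹ *
      ∑ x : G, φ ⟨x * ((n * n : N) : G) * x⁻¹, hN.conj_mem _ (n * n).2 x⟩ := by
    intro n
    exact indFun_coe N φ (n * n)
  have h4 : ∀ x : G, ∑ n : N, φ ⟨x * ((n * n : N) : G) * x⁻¹, hN.conj_mem _ (n * n).2 x⟩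
      = ∑ n : N, φ (n * n) := by
    intro x
    refine Fintype.sum_equiv (MulAut.conjNormal x : MulAut N).toEquiv _ _ fun n => ?_
    congr 1
    apply Subtype.ext
    simp only [MulEquiv.toEquiv_eq_coe, MulEquiv.coe_toEquiv, Subgroup.coe_mul,
      MulAut.conjNormal_apply]
    group
  rw [fs, fs, h1]
  simp_rw [h3]
  rw [← Finset.mul_sum, Finset.sum_comm]
  simp_rw [h4]
  rw [Finset.sum_const, Finset.card_univ, ← Nat.card_eq_fintype_card, nsmul_eq_mul]
  field_simp

variable {G : Type*} [Group G] [Fintype G]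

/-- The indicator of an irreducible character is `0`, `1` or `-1`, and `0` exactly when the
character is not real-valued. -/
theorem fs_irr {χ : G → ℂ} (hχ : IsIrrCharacter G χ) :
    (fs χ = 0 ∨ fs χ = 1 ∨ fs χ = -1) ∧ (fs χ = 0 ↔ ∃ s : G, (χ s).im ≠ 0) := by
  obtain ⟨n, ρ, hρ, rfl⟩ := hχ
  haveI := hρ
  exact Cfsg.Agent.S0158.result ρ

/-- The multiplicity of `φ` in the restriction. -/
noncomputable def mult (N : Subgroup G) [Fintype N] (χ : G → ℂ) (φ : N → ℂ) : ℂ :=
  classInner (fun n : N => χ n) φ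

variable (N : Subgroup G) [hN : N.Normal] [Fintype N]

/-- The sum of all conjugates (with repetition). -/
noncomputable def Phi (φ : N → ℂ) (n : N) : ℂ :=
  ∑ x : G, φ ⟨x * n * x⁻¹, hN.conj_mem n n.2 x⟩

theorem Phi_invariant (φ : N → ℂ) (g : G) (n : N) :
    Phi N φ ⟨g * n * g⁻¹, hN.conj_mem n n.2 g⟩ = Phi N φ n := by
  unfold Phi
  refine Fintype.sum_equiv (Equiv.mulRight g) _ _ fun x => ?_
  congr 1
  apply Subtype.ext
  simp only [Equiv.coe_mulRight]
  group

/-- The number of elements stabilising `φ`. -/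
noncomputable def stab (φ : N → ℂ) : ℕ :=
  Nat.card {g : G // ∀ h : N, φ ⟨g * h * g⁻¹, hN.conj_mem h h.2 g⟩ = φ h}

theorem stab_pos (φ : N → ℂ) : 0 < stab N φ := by
  classical
  unfold stab
  haveI : Nonempty {g : G // ∀ h : N, φ ⟨g * h * g⁻¹, hN.conj_mem h h.2 g⟩ = φ h} :=
    ⟨⟨1, fun h => by
      congr 1
      apply Subtype.ext
      simp⟩⟩
  exact Nat.card_pos

theorem conj_isIrr {φ : N → ℂ} (hφ : IsIrrCharacter N φ) (x : G) :
    IsIrrCharacter N (fun n : N => φ ⟨x * n * x⁻¹, hN.conj_mem n n.2 x⟩) := by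
  have h := isIrr_comp ((MulAut.conjNormal x : MulAut N) : N →* N)
    (MulAut.conjNormal x : MulAut N).surjective hφ
  have h2 : (φ ∘ ((MulAut.conjNormal x : MulAut N) : N →* N)) =
      (fun n : N => φ ⟨x * n * x⁻¹, hN.conj_mem n n.2 x⟩) := by
    funext n
    simp only [Function.comp]
    congr 1
  rw [← h2]
  exact h

theorem inner_Phi {φ : N → ℂ} (hφ : IsIrrCharacter N φ) :
    classInner (Phi N φ) φ = stab N φ := by
  classical
  have h1 : (Phi N φ) = ∑ x : G, (fun n : N => φ ⟨x * n * x⁻¹, hN.conj_mem n n.2 x⟩) := by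
    funext n
    rw [Finset.sum_apply]
    rfl
  rw [h1, classInner_sum_left]
  have h2 : ∀ x : G, classInner (fun n : N => φ ⟨x * n * x⁻¹, hN.conj_mem n n.2 x⟩) φ =
      if (∀ h : N, φ ⟨x * h * x⁻¹, hN.conj_mem h h.2 x⟩ = φ h) then 1 else 0 := by
    intro x
    rw [classInner_irr (conj_isIrr N hφ x) hφ]
    refine if_congr ?_ rfl rfl
    constructor
    · intro h n
      exact congrFun h n
    · intro h
      funext n
      exact h n
  simp_rw [h2]
  rw [Finset.sum_boole]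
  unfold stab
  rw [Nat.card_eq_fintype_card, Fintype.card_subtype]

theorem inner_Phi_Phi {φ : N → ℂ} (hφ : IsIrrCharacter N φ) :
    classInner (Phi N φ) (Phi N φ) = Nat.card G * stab N φ := by
  classical
  have h1 : (Phi N φ) = ∑ x : G, (fun n : N => φ ⟨x * n * x⁻¹, hN.conj_mem n n.2 x⟩) := by
    funext n
    rw [Finset.sum_apply]
    rfl
  have h2 : classInner (Phi N φ) (Phi N φ) =
      ∑ x : G, classInner (Phi N φ) (fun n : N => φ ⟨x * n * x⁻¹, hN.conj_mem n n.2 x⟩) := by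
    nth_rewrite 2 [h1]
    rw [classInner_sum_right]
  have h3 : ∀ x : G, classInner (Phi N φ) (fun n : N => φ ⟨x * n * x⁻¹, hN.conj_mem n n.2 x⟩)
      = stab N φ := by
    intro x
    rw [← inner_Phi N hφ, classInner_def, classInner_def]
    congr 1
    refine Fintype.sum_equiv (MulAut.conjNormal x : MulAut N).toEquiv _ _ fun n => ?_
    have h4 : (MulAut.conjNormal x : MulAut N).toEquiv n =
        ⟨x * n * x⁻¹, hN.conj_mem n n.2 x⟩ := by
      apply Subtype.ext
      simp [MulAut.conjNormal_apply]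
    rw [h4, Phi_invariant]
  rw [h2]
  simp_rw [h3]
  rw [Finset.sum_const, Finset.card_univ, ← Nat.card_eq_fintype_card, nsmul_eq_mul]

/-- Clifford: the restriction of a character over `φ` is a multiple of the sum of all conjugates
of `φ`. -/
theorem restrict_eq {χ : G → ℂ} (hχ : IsIrrCharacter G χ) {φ : N → ℂ} (hφ : IsIrrCharacter N φ)
    (h : mult N χ φ ≠ 0) (n : N) : χ n = mult N χ φ / stab N φ * Phi N φ n := by
  classical
  have hcl := Cfsg.Agent.S0174.result N hN χ hχ φ hφ h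
  -- the orbit
  let c : G → (N → ℂ) := fun x => fun n : N => φ ⟨x * n * x⁻¹, hN.conj_mem n n.2 x⟩
  let O : Finset (N → ℂ) := Finset.univ.image c
  have hO : {ψ : N → ℂ | ∃ g : G, ψ = fun n : N => φ ⟨g * n * g⁻¹, hN.conj_mem n n.2 g⟩}
      = (O : Set (N → ℂ)) := by
    ext ψ
    simp only [Set.mem_setOf_eq, O, Finset.coe_image, Finset.coe_univ, Set.image_univ,
      Set.mem_range, c]
    constructor
    · rintro ⟨g, hg⟩
      exact ⟨g, hg.symm⟩
    · rintro ⟨g, hg⟩
      exact ⟨g, hg.symm⟩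
  rw [hO, finsum_mem_coe_finset] at hcl
  have h1 : χ n = mult N χ φ * ∑ ψ ∈ O, ψ n := by
    have := congrFun hcl n
    rw [this]
    simp only [Pi.smul_apply, Finset.sum_apply, smul_eq_mul, mult]
  have hfib : ∀ ψ ∈ O, ((Finset.univ.filter (fun x : G => c x = ψ)).card : ℂ) = stab N φ := by
    intro ψ hψ
    obtain ⟨g, -, rfl⟩ := Finset.mem_image.1 hψ
    unfold stab
    rw [Nat.card_eq_fintype_card, Fintype.card_subtype]
    norm_cast
    refine Finset.card_bij (fun x _ => x * g⁻¹) ?_ ?_ ?_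
    · intro x hx
      rw [Finset.mem_filter] at hx ⊢
      refine ⟨Finset.mem_univ _, fun m => ?_⟩
      have h2 := congrFun hx.2 ⟨g⁻¹ * m * g⁻¹⁻¹, hN.conj_mem m m.2 g⁻¹⟩
      simp only [c] at h2
      convert h2 using 2
      · apply Subtype.ext
        simp only
        group
      · apply Subtype.ext
        simp only
        group
    · intro x _ y _ hxy
      exact mul_right_cancel hxy
    · intro y hy
      rw [Finset.mem_filter] at hy
      refine ⟨y * g, ?_, by group⟩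
      rw [Finset.mem_filter]
      refine ⟨Finset.mem_univ _, ?_⟩
      funext m
      have h2 := hy.2 ⟨g * m * g⁻¹, hN.conj_mem m m.2 g⟩
      simp only [c]
      rw [← h2]
      congr 1
      apply Subtype.ext
      simp only
      group
  have h2 : Phi N φ n = stab N φ * ∑ ψ ∈ O, ψ n := by
    have h3 : Phi N φ n = ∑ ψ ∈ O, ∑ x ∈ Finset.univ.filter (fun x : G => c x = ψ), c x n := by
      rw [Finset.sum_fiberwise_of_maps_to (g := c) (fun x _ => Finset.mem_image_of_mem c
        (Finset.mem_univ x))]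
      rfl
    rw [h3, Finset.mul_sum]
    refine Finset.sum_congr rfl fun ψ hψ => ?_
    rw [← hfib ψ hψ]
    rw [Finset.sum_congr rfl (fun x hx => by rw [(Finset.mem_filter.1 hx).2] :
      ∀ x ∈ Finset.univ.filter (fun x : G => c x = ψ), c x n = ψ n)]
    rw [Finset.sum_const, nsmul_eq_mul]
  have hs : (stab N φ : ℂ) ≠ 0 := by exact_mod_cast (stab_pos N φ).ne'
  rw [h1, h2]
  field_simp

/-- Multiplicities are natural numbers. -/
theorem mult_nat {χ : G → ℂ} (hχ : IsIrrCharacter G χ) {φ : N → ℂ} (hφ : IsIrrCharacter N φ) :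
    ∃ m : ℕ, mult N χ φ = m :=
  classInner_isNat (isCharacter_comp N.subtype (isIrr_isCharacter hχ)) (isIrr_isCharacter hφ)

theorem inner_ind {χ : G → ℂ} (hχ : IsIrrCharacter G χ) {φ : N → ℂ} (hφ : IsIrrCharacter N φ) :
    classInner (indFun N φ) χ = mult N χ φ := by
  rw [classInner_indFun N φ χ (isIrr_isClassFunction hχ), ← classInner_conj_symm]
  obtain ⟨m, hm⟩ := mult_nat N hχ hφ
  unfold mult at hm ⊢
  rw [hm, Complex.conj_natCast]

theorem ind_eq_sum [Fintype (IrrCharacter G)] {φ : N → ℂ} (hφ : IsIrrCharacter N φ) :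
    indFun N φ = ∑ χ : IrrCharacter G, mult N (χ : G → ℂ) φ • (χ : G → ℂ) := by
  have h := classFunction_eq_sum (indFun_isClassFunction N φ)
  nth_rewrite 1 [h]
  refine Finset.sum_congr rfl fun χ _ => ?_
  rw [inner_ind N χ.2 hφ]

theorem sum_mult_sq [Fintype (IrrCharacter G)] {φ : N → ℂ} (hφ : IsIrrCharacter N φ) :
    (Nat.card N : ℂ) * ∑ χ : IrrCharacter G, mult N (χ : G → ℂ) φ ^ 2 = stab N φ := by
  have h := Cfsg.Agent.S0193.result N φ hφ
  rw [ind_eq_sum N hφ, classInner_sum_smul_sum_smul] at h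
  unfold stab
  rw [← h]
  congr 1
  refine Finset.sum_congr rfl fun χ _ => ?_
  obtain ⟨m, hm⟩ := mult_nat N χ.2 hφ
  rw [hm, Complex.conj_natCast, pow_two]

theorem sum_mult_fs [Fintype (IrrCharacter G)] (hodd : Odd N.index) {φ : N → ℂ}
    (hφ : IsIrrCharacter N φ) :
    ∑ χ : IrrCharacter G, mult N (χ : G → ℂ) φ * fs (χ : G → ℂ) = fs φ := by
  rw [← fs_indFun N hodd φ, ind_eq_sum N hφ]
  unfold fs
  simp_rw [Finset.sum_apply, Pi.smul_apply, smul_eq_mul]
  rw [Finset.sum_comm, Finset.mul_sum]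
  refine Finset.sum_congr rfl fun χ _ => ?_
  rw [← Finset.mul_sum]
  ring

/-- A `G`-invariant function on `N` acts as a scalar on irreducible characters of `G`. -/
theorem sum_act {χ : G → ℂ} (hχ : IsIrrCharacter G χ) (F : N → ℂ)
    (hF : ∀ (g : G) (n : N), F ⟨g * n * g⁻¹, hN.conj_mem n n.2 g⟩ = F n) (g : G) :
    ∑ n : N, F n * χ (g * n) = χ g * ((∑ n : N, F n * χ n) / χ 1) := by
  obtain ⟨d, ρ, hρ, rfl⟩ := hχ
  haveI := hρ
  let T : (Fin d → ℂ) →ₗ[ℂ] (Fin d → ℂ) := ∑ n : N, F n • ρ (n : G)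
  have hT : ∀ g, T ∘ₗ ρ g = ρ g ∘ₗ T := by
    intro g
    change T * ρ g = ρ g * T
    simp only [T]
    rw [Finset.sum_mul, Finset.mul_sum]
    refine Fintype.sum_equiv (MulAut.conjNormal g⁻¹ : MulAut N).toEquiv _ _ fun n => ?_
    have h4 : (MulAut.conjNormal g⁻¹ : MulAut N).toEquiv n =
        ⟨g⁻¹ * n * g⁻¹⁻¹, hN.conj_mem n n.2 g⁻¹⟩ := by
      apply Subtype.ext
      simp [MulAut.conjNormal_apply]
    rw [h4, hF, smul_mul_assoc, mul_smul_comm]
    congr 1
    rw [← map_mul, ← map_mul]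
    congr 1
    group
  have h1 := Cfsg.Agent.Blocks.CliffordCentral.eq_scalar_of_commute ρ T hT
  have htr : LinearMap.trace ℂ _ T = ∑ n : N, F n * ρ.character n := by
    simp only [T, map_sum, map_smul, smul_eq_mul]
    rfl
  have h2 : LinearMap.trace ℂ _ (ρ g * T) = ∑ n : N, F n * ρ.character (g * n) := by
    simp only [T]
    rw [Finset.mul_sum, map_sum]
    refine Finset.sum_congr rfl fun n _ => ?_
    rw [mul_smul_comm, map_smul, smul_eq_mul]
    congr 1
    exact congrArg (LinearMap.trace ℂ _) (map_mul ρ g (n : G)).symm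
  rw [← h2, h1]
  change LinearMap.trace ℂ _ (ρ g * ((LinearMap.trace ℂ _ T / ρ.character 1) • (1 : Module.End ℂ _)))
    = _
  rw [mul_smul_comm, mul_one, map_smul, htr, smul_eq_mul, mul_comm]
  rfl

/-- The number of real-valued characters over a real-valued one, as a sum. -/
theorem sum_real [Fintype (IrrCharacter G)] (hodd : Odd N.index) {φ : N → ℂ}
    (hφ : IsIrrCharacter N φ) (hreal : ∀ n : N, (φ n).im = 0) :
    ∑ χ : IrrCharacter G, (if mult N (χ : G → ℂ) φ ≠ 0 then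
      ∑ g : G, (χ : G → ℂ) g * (χ : G → ℂ) g else 0) = (Nat.card G : ℂ) := by
  classical
  have hG : (Nat.card G : ℂ) ≠ 0 := card_ne_zero_complex
  have hNc : (Nat.card N : ℂ) ≠ 0 := card_ne_zero_complex
  have hs : (stab N φ : ℂ) ≠ 0 := by exact_mod_cast (stab_pos N φ).ne'
  have hconj : ∀ n : N, conj (φ n) = φ n := fun n => Complex.conj_eq_iff_im.2 (hreal n)
  have hPhi : ∀ n : N, conj (Phi N φ n) = Phi N φ n := by
    intro n
    unfold Phi
    rw [map_sum]
    exact Finset.sum_congr rfl fun x _ => hconj _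
  have hφ1 : φ 1 ≠ 0 := isIrr_apply_one_ne_zero hφ
  -- the scalar by which `Phi` acts
  have hin : ∀ χ : IrrCharacter G, ∑ n : N, Phi N φ n * (χ : G → ℂ) n =
      Nat.card G * Nat.card N * mult N (χ : G → ℂ) φ := by
    intro χ
    have h1 : ∀ x : G, ∑ n : N, φ ⟨x * n * x⁻¹, hN.conj_mem n n.2 x⟩ * (χ : G → ℂ) n =
        Nat.card N * mult N (χ : G → ℂ) φ := by
      intro x
      unfold mult
      rw [classInner_def, ← mul_assoc, mul_inv_cancel₀ hNc, one_mul]
      refine Fintype.sum_equiv (MulAut.conjNormal x : MulAut N).toEquiv _ _ fun n => ?_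
      have h4 : (MulAut.conjNormal x : MulAut N).toEquiv n =
          ⟨x * n * x⁻¹, hN.conj_mem n n.2 x⟩ := by
        apply Subtype.ext
        simp [MulAut.conjNormal_apply]
      rw [h4, hconj, mul_comm]
      congr 1
      exact (isIrr_isClassFunction χ.2 (n : G) x).symm
    unfold Phi
    simp_rw [Finset.sum_mul]
    rw [Finset.sum_comm]
    simp_rw [h1]
    rw [Finset.sum_const, Finset.card_univ, ← Nat.card_eq_fintype_card, nsmul_eq_mul]
    ring
  set c : ℂ := (∑ n : N, Phi N φ n * φ n) / φ 1 with hc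
  have hc0 : c ≠ 0 := by
    have h1 : ∑ n : N, Phi N φ n * φ n = Nat.card N * stab N φ := by
      rw [← inner_Phi N hφ, classInner_def, ← mul_assoc, mul_inv_cancel₀ hNc, one_mul]
      exact Finset.sum_congr rfl fun n _ => by rw [hconj]
    rw [hc, h1]
    exact div_ne_zero (mul_ne_zero hNc hs) hφ1
  have hsc : ∀ χ : IrrCharacter G, (∑ n : N, Phi N φ n * (χ : G → ℂ) n) / (χ : G → ℂ) 1 =
      if mult N (χ : G → ℂ) φ ≠ 0 then c else 0 := by
    intro χ
    split_ifs with h
    · exact Cfsg.Agent.Blocks.CliffordCentral.sum_div_eq_of_constituent N χ ⟨φ, hφ⟩ h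
        (Phi N φ) (Phi_invariant N φ)
    · rw [hin, not_not.1 h, mul_zero, zero_div]
  -- the column relation
  have hcol : ∀ g h : G, c * ∑ χ : IrrCharacter G, (if mult N (χ : G → ℂ) φ ≠ 0 then
      (χ : G → ℂ) g * (χ : G → ℂ) h else 0) = ∑ n : N, Phi N φ n *
        ∑ χ : IrrCharacter G, (χ : G → ℂ) (g * n) * conj ((χ : G → ℂ) h⁻¹) := by
    intro g h
    have h1 : ∀ χ : IrrCharacter G, c * (if mult N (χ : G → ℂ) φ ≠ 0 then
        (χ : G → ℂ) g * (χ : G → ℂ) h else 0) =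
        ∑ n : N, Phi N φ n * ((χ : G → ℂ) (g * n) * conj ((χ : G → ℂ) h⁻¹)) := by
      intro χ
      have h2 := sum_act N χ.2 (Phi N φ) (Phi_invariant N φ) g
      rw [hsc] at h2
      have h3 : conj ((χ : G → ℂ) h⁻¹) = (χ : G → ℂ) h := by
        rw [isCharacter_apply_inv (isIrr_isCharacter χ.2), Complex.conj_conj]
      rw [h3]
      simp_rw [← mul_assoc]
      rw [← Finset.sum_mul, h2]
      split_ifs with h5
      · ring
      · ring
    rw [Finset.mul_sum]
    simp_rw [h1]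
    rw [Finset.sum_comm]
    exact Finset.sum_congr rfl fun n _ => by rw [Finset.mul_sum]
  have hoff : ∀ g : G, g ∉ N → ∑ χ : IrrCharacter G, (if mult N (χ : G → ℂ) φ ≠ 0 then
      (χ : G → ℂ) g * (χ : G → ℂ) g else 0) = 0 := by
    intro g hg
    have h1 := hcol g g
    have h2 : ∀ n : N, ∑ χ : IrrCharacter G, (χ : G → ℂ) (g * n) * conj ((χ : G → ℂ) g⁻¹) = 0 := by
      intro n
      have h3 := (Cfsg.Agent.S0145.result (g * (n : G)) g⁻¹).2
        (fun h => hg (mem_of_isConj_inv N hodd n.2 h))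
      rw [finsum_eq_sum_of_fintype] at h3
      exact h3
    simp_rw [h2] at h1
    simp only [mul_zero, Finset.sum_const_zero] at h1
    exact (mul_eq_zero.1 h1).resolve_left hc0
  -- the sum over `N`
  have hon : ∀ χ : IrrCharacter G, (if mult N (χ : G → ℂ) φ ≠ 0 then
      ∑ n : N, (χ : G → ℂ) n * (χ : G → ℂ) n else 0) =
      mult N (χ : G → ℂ) φ ^ 2 * (Nat.card N * Nat.card G / stab N φ) := by
    intro χ
    split_ifs with h
    · have h1 : ∑ n : N, Phi N φ n * Phi N φ n = Nat.card N * (Nat.card G * stab N φ) := by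
        rw [← inner_Phi_Phi N hφ, classInner_def, ← mul_assoc, mul_inv_cancel₀ hNc, one_mul]
        exact Finset.sum_congr rfl fun n _ => by rw [hPhi]
      have h2 : ∑ n : N, (χ : G → ℂ) n * (χ : G → ℂ) n =
          (mult N (χ : G → ℂ) φ / stab N φ) ^ 2 * ∑ n : N, Phi N φ n * Phi N φ n := by
        rw [Finset.mul_sum]
        refine Finset.sum_congr rfl fun n _ => ?_
        rw [restrict_eq N χ.2 hφ h n]
        ring
      rw [h2, h1]
      field_simp
    · rw [not_not.1 h]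
      ring
  have hswap : ∑ χ : IrrCharacter G, (if mult N (χ : G → ℂ) φ ≠ 0 then
      ∑ g : G, (χ : G → ℂ) g * (χ : G → ℂ) g else 0) =
      ∑ g : G, ∑ χ : IrrCharacter G, (if mult N (χ : G → ℂ) φ ≠ 0 then
        (χ : G → ℂ) g * (χ : G → ℂ) g else 0) := by
    rw [Finset.sum_comm]
    refine Finset.sum_congr rfl fun χ _ => ?_
    split_ifs with h
    · rfl
    · simp
  have hswap2 : ∑ χ : IrrCharacter G, (if mult N (χ : G → ℂ) φ ≠ 0 then
      ∑ n : N, (χ : G → ℂ) n * (χ : G → ℂ) n else 0) =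
      ∑ n : N, ∑ χ : IrrCharacter G, (if mult N (χ : G → ℂ) φ ≠ 0 then
        (χ : G → ℂ) n * (χ : G → ℂ) n else 0) := by
    rw [Finset.sum_comm]
    refine Finset.sum_congr rfl fun χ _ => ?_
    split_ifs with h
    · rfl
    · simp
  have hred : ∑ g : G, ∑ χ : IrrCharacter G, (if mult N (χ : G → ℂ) φ ≠ 0 then
        (χ : G → ℂ) g * (χ : G → ℂ) g else 0) =
      ∑ n : N, ∑ χ : IrrCharacter G, (if mult N (χ : G → ℂ) φ ≠ 0 then
        (χ : G → ℂ) n * (χ : G → ℂ) n else 0) := by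
    have h2 := sum_extendByZero N (fun n : N => ∑ χ : IrrCharacter G,
      (if mult N (χ : G → ℂ) φ ≠ 0 then (χ : G → ℂ) n * (χ : G → ℂ) n else 0))
    rw [← h2]
    refine Finset.sum_congr rfl fun g _ => ?_
    by_cases hg : g ∈ N
    · rw [CharactersDeep.NormalInd.extendByZero_of_mem N _ hg]
    · rw [CharactersDeep.NormalInd.extendByZero_of_not_mem N _ hg, hoff g hg]
  rw [hswap, hred, ← hswap2]
  simp_rw [hon]
  rw [← Finset.sum_mul]
  have h5 := sum_mult_sq N hφ
  have h6 : ∑ χ : IrrCharacter G, mult N (χ : G → ℂ) φ ^ 2 = stab N φ / Nat.card N := by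
    rw [← h5]
    field_simp
  rw [h6]
  field_simp

theorem sum_sq_irr (χ : IrrCharacter G) : ∑ g : G, (χ : G → ℂ) g * (χ : G → ℂ) g =
    if (∀ g : G, ((χ : G → ℂ) g).im = 0) then (Nat.card G : ℂ) else 0 := by
  classical
  have hG : (Nat.card G : ℂ) ≠ 0 := card_ne_zero_complex
  have h1 : ∑ g : G, (χ : G → ℂ) g * (χ : G → ℂ) g =
      Nat.card G * classInner (χ : G → ℂ) (fun g => conj ((χ : G → ℂ) g)) := by
    rw [classInner_def, ← mul_assoc, mul_inv_cancel₀ hG, one_mul]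
    exact Finset.sum_congr rfl fun g _ => by rw [Complex.conj_conj]
  rw [h1, classInner_irr χ.2 (isIrr_conj χ.2)]
  by_cases h : ∀ g : G, ((χ : G → ℂ) g).im = 0
  · rw [if_pos h, if_pos (funext fun g => (Complex.conj_eq_iff_im.2 (h g)).symm), mul_one]
  · rw [if_neg h, if_neg, mul_zero]
    intro h2
    exact h fun g => Complex.conj_eq_iff_im.1 (congrFun h2 g).symm

/-- **Real-valued characters over a real-valued character of a normal subgroup of odd index**:
there is exactly one. -/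
theorem existsUnique_real (hodd : Odd N.index) {φ : N → ℂ}
    (hφ : IsIrrCharacter N φ) (hreal : ∀ n : N, (φ n).im = 0) :
    ∃! χ : IrrCharacter G, (∀ g : G, ((χ : G → ℂ) g).im = 0) ∧ mult N (χ : G → ℂ) φ ≠ 0 := by
  classical
  have : Finite (IrrCharacter G) := finite_irr
  have := Fintype.ofFinite (IrrCharacter G)
  have hG : (Nat.card G : ℂ) ≠ 0 := card_ne_zero_complex
  have h1 := sum_real N hodd hφ hreal
  have h2 : ∀ χ : IrrCharacter G, (if mult N (χ : G → ℂ) φ ≠ 0 then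
      ∑ g : G, (χ : G → ℂ) g * (χ : G → ℂ) g else 0) =
      if (∀ g : G, ((χ : G → ℂ) g).im = 0) ∧ mult N (χ : G → ℂ) φ ≠ 0 then
        (Nat.card G : ℂ) else 0 := by
    intro χ
    rw [sum_sq_irr]
    by_cases h3 : mult N (χ : G → ℂ) φ ≠ 0
    · by_cases h4 : ∀ g : G, ((χ : G → ℂ) g).im = 0
      · rw [if_pos h3, if_pos h4, if_pos ⟨h4, h3⟩]
      · rw [if_pos h3, if_neg h4, if_neg (fun h => h4 h.1)]
    · rw [if_neg h3, if_neg (fun h => h3 h.2)]
  simp_rw [h2] at h1
  rw [← Finset.sum_filter, Finset.sum_const, nsmul_eq_mul] at h1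
  have h3 : ((Finset.univ.filter (fun χ : IrrCharacter G =>
      (∀ g : G, ((χ : G → ℂ) g).im = 0) ∧ mult N (χ : G → ℂ) φ ≠ 0)).card : ℂ) = 1 := by
    have h4 := mul_right_cancel₀ hG (h1.trans (one_mul _).symm)
    exact h4
  have h4 : (Finset.univ.filter (fun χ : IrrCharacter G =>
      (∀ g : G, ((χ : G → ℂ) g).im = 0) ∧ mult N (χ : G → ℂ) φ ≠ 0)).card = 1 := by
    exact_mod_cast h3
  obtain ⟨χ, hχ⟩ := Finset.card_eq_one.1 h4
  have hmem : ∀ ψ : IrrCharacter G, ((∀ g : G, ((ψ : G → ℂ) g).im = 0) ∧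
      mult N (ψ : G → ℂ) φ ≠ 0) ↔ ψ = χ := by
    intro ψ
    have h5 : ψ ∈ Finset.univ.filter (fun χ : IrrCharacter G =>
      (∀ g : G, ((χ : G → ℂ) g).im = 0) ∧ mult N (χ : G → ℂ) φ ≠ 0) ↔ ψ = χ := by
      rw [hχ, Finset.mem_singleton]
    rw [← h5, Finset.mem_filter]
    exact ⟨fun h => ⟨Finset.mem_univ _, h⟩, fun h => h.2⟩
  exact ⟨χ, (hmem χ).2 rfl, fun ψ hψ => (hmem ψ).1 hψ⟩

/-- The real-valued character over `φ` has the same indicator as `φ`, with multiplicity one. -/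
theorem indicator_real (hodd : Odd N.index) {φ : N → ℂ}
    (hφ : IsIrrCharacter N φ) (hreal : ∀ n : N, (φ n).im = 0) (χ : IrrCharacter G)
    (hχ : ∀ g : G, ((χ : G → ℂ) g).im = 0) (hm : mult N (χ : G → ℂ) φ ≠ 0) :
    fs (χ : G → ℂ) = fs φ ∧ mult N (χ : G → ℂ) φ = 1 := by
  classical
  have : Finite (IrrCharacter G) := finite_irr
  have := Fintype.ofFinite (IrrCharacter G)
  obtain ⟨χ₀, h₀, huniq⟩ := existsUnique_real N hodd hφ hreal
  have hχ0 : χ = χ₀ := huniq χ ⟨hχ, hm⟩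
  have h1 := sum_mult_fs N hodd hφ
  rw [Finset.sum_eq_single χ] at h1
  · obtain ⟨m, hmm⟩ := mult_nat N χ.2 hφ
    have hφ0 : fs φ ≠ 0 := by
      intro h
      obtain ⟨s, hs⟩ := (fs_irr hφ).2.1 h
      exact hs (hreal s)
    have hm0 : m ≠ 0 := by
      rintro rfl
      exact hm (by rw [hmm]; simp)
    rw [hmm] at h1 ⊢
    have key : ∀ a b : ℂ, (a = 1 ∨ a = -1) → (b = 1 ∨ b = -1) → (m : ℂ) * a = b →
        a = b ∧ (m : ℂ) = 1 := by
      intro a b ha hb hab
      have hmreal : (m : ℂ) = 1 ∨ (m : ℂ) = -1 := by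
        rcases ha with ha | ha <;> rcases hb with hb | hb <;> subst ha <;> subst hb
        · left; simpa using hab
        · right; simpa using hab
        · right; linear_combination -hab
        · left; linear_combination -hab
      have hm1 : (m : ℂ) = 1 := by
        rcases hmreal with h | h
        · exact h
        · exfalso
          have h2 : ((m + 1 : ℕ) : ℂ) = 0 := by
            push_cast
            rw [h]
            ring
          exact absurd (by exact_mod_cast h2 : m + 1 = 0) (Nat.succ_ne_zero m)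
      refine ⟨?_, hm1⟩
      rw [hm1, one_mul] at hab
      exact hab
    refine key _ _ ?_ ?_ h1
    · rcases (fs_irr χ.2).1 with h | h | h
      · exfalso
        rw [h, mul_zero] at h1
        exact hφ0 h1.symm
      · exact Or.inl h
      · exact Or.inr h
    · rcases (fs_irr hφ).1 with h | h | h
      · exact absurd h hφ0
      · exact Or.inl h
      · exact Or.inr h
  · intro ψ _ hψ
    by_cases h2 : mult N (ψ : G → ℂ) φ = 0
    · rw [h2, zero_mul]
    · by_cases h3 : ∀ g : G, ((ψ : G → ℂ) g).im = 0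
      · exact absurd ((huniq ψ ⟨h3, h2⟩).trans hχ0.symm) hψ
      · push Not at h3
        rw [(fs_irr ψ.2).2.2 h3, mul_zero]
  · intro h
    exact absurd (Finset.mem_univ _) h

end Cfsg.Agent.H696.OddIndex
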