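import Cfsg.Agent.BpExc.RowsUntw

/-!
# `-1` in the Weyl groups of `G₂`, `F₄`, `D₄`, `E₇`, `E₈`

`neg_of_tab` : if the matrix of `w` on the simple roots is `-1`, then `w` maps every root to its opposite; the
half power of the Coxeter element.
-/

set_option autoImplicit false

namespace Cfsg.Agent.H696.GmnNeg

open CoxeterSystem Cfsg Cfsg.Lie Cfsg.Lie.ChevalleyDatum
open Cfsg.Agent.ChevalleyStructure Cfsg.Agent.ChevalleyStructure.Elts Cfsg.Agent.ChevalleyStructure.CoxeterGeom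
  Cfsg.Agent.ChevalleyStructure.CoxeterGeomTypes
open Cfsg.Agent.Tits.Roots Cfsg.Agent.Tits.Core Cfsg.Agent.Nodes.RGDChev

section Tab

variable {l : ℕ} {W : Type*} [Group W] {M : CoxeterMatrix (Fin l)} (cs : CoxeterSystem M W)
  {A : Fin l → Fin l → ℤ} (h : IsCartan M A)

/-- `P` is the matrix of `w` on the simple roots: row `i` is the image of `α_i`. -/
def Tab (w : W) (P : Fin l → Fin l → ℤ) : Prop := ∀ i, rep cs h w (sr i) = P i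

variable {cs h}

theorem Tab.apply {w : W} {P : Fin l → Fin l → ℤ} (hw : Tab cs h w P) (x : Fin l → ℤ) :
    rep cs h w x = fun m => ∑ j, x j * P j m := by
  have h1 : x = ∑ j, x j • sr j := by
    funext m
    rw [Finset.sum_apply, Finset.sum_eq_single m]
    · rw [Pi.smul_apply, sr_self, smul_eq_mul, mul_one]
    · intro b _ hb
      rw [Pi.smul_apply, sr_ne (Ne.symm hb), smul_zero]
    · intro h; exact absurd (Finset.mem_univ m) h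
  conv_lhs => rw [h1]
  rw [map_sum]
  funext m
  rw [Finset.sum_apply]
  refine Finset.sum_congr rfl fun j _ => ?_
  rw [map_smul, hw j, Pi.smul_apply, smul_eq_mul]

/-- the product of two tables -/
def mulT (P Q : Fin l → Fin l → ℤ) : Fin l → Fin l → ℤ := fun i m => ∑ j, P i j * Q j m

/-- the table `-1` -/
def negT (l : ℕ) : Fin l → Fin l → ℤ := fun i m => if i = m then -1 else 0

theorem Tab.mul {w w' : W} {P Q : Fin l → Fin l → ℤ} (hw : Tab cs h w P) (hw' : Tab cs h w' Q) :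
    Tab cs h (w * w') (mulT Q P) := by
  intro i
  rw [rep_mul_apply, hw' i, hw.apply]
  rfl

variable (cs h) in
theorem neg_of_tab {w : W} (hw : Tab cs h w (negT l)) : ∃ w : W, ∀ a, IsRoot cs h a → rep cs h w a = -a := by
  refine ⟨w, fun a _ => ?_⟩
  rw [hw.apply]
  funext m
  rw [Finset.sum_eq_single m]
  · rw [negT, if_pos rfl, mul_neg_one, Pi.neg_apply]
  · intro b _ hb
    rw [negT, if_neg hb, mul_zero]
  · intro h; exact absurd (Finset.mem_univ m) h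

/-- the reflection in the simple root `i` -/
def rf (A : Fin l → Fin l → ℤ) (i : Fin l) (x : Fin l → ℤ) : Fin l → ℤ :=
  fun m => if m = i then x m - ∑ k, A i k * x k else x m

/-- the product of the reflections of a word -/
def word (A : Fin l → Fin l → ℤ) (ω : List (Fin l)) (x : Fin l → ℤ) : Fin l → ℤ := ω.foldr (rf A) x

theorem rep_eq_rf (i : Fin l) (x : Fin l → ℤ) : rep cs h (cs.simple i) x = rf A i x := by
  funext m
  rw [rep_simple_eq]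
  by_cases hm : m = i
  · subst hm
    rw [Pi.sub_apply, Pi.smul_apply, sr_self, smul_eq_mul, mul_one, rf, if_pos rfl]
    rfl
  · rw [Pi.sub_apply, Pi.smul_apply, sr_ne hm, smul_zero, sub_zero, rf, if_neg hm]

theorem rep_word (ω : List (Fin l)) (x : Fin l → ℤ) : rep cs h (cs.wordProd ω) x = word A ω x := by
  induction ω with
  | nil => rw [wordProd_nil, map_one, Module.End.one_apply]; rfl
  | cons i ω ih =>
    rw [wordProd_cons, rep_mul_apply, ih, rep_eq_rf]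
    rfl

variable (cs h) in
theorem tab_word {ω : List (Fin l)} {A' : Fin l → Fin l → ℤ} {P : Fin l → Fin l → ℤ} (hA : A = A')
    (hω : ∀ i m, word A' ω (Pi.single i 1) m = P i m) : Tab cs h (cs.wordProd ω) P := by
  subst hA
  intro i
  rw [rep_word]
  funext m
  exact hω i m

end Tab

/-! ### `G2` -/

section G2

def AG2 : Fin 2 → Fin 2 → ℤ :=
  ![![2, -3], ![-1, 2]]

def CG2 : Fin 2 → Fin 2 → ℤ :=
  ![![2, 1], ![-3, -1]]

theorem cartanG2 : cartanOf chevG2 2 = AG2 := by decide +kernel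

theorem coxG2 (i m : Fin 2) : word AG2 [0, 1] (Pi.single i 1) m = CG2 i m := by
  revert i m
  decide +kernel

def CG22 : Fin 2 → Fin 2 → ℤ :=
  ![![1, 1], ![-3, -2]]

theorem CG22_eq : CG22 = mulT CG2 CG2 := by decide +kernel

theorem CG2_fin : mulT CG22 CG2 = negT 2 := by decide +kernel

theorem negG2 {W : Type*} [Group W] (hp : IsType chevG2 2 CoxeterMatrix.G₂) (cs : CoxeterSystem CoxeterMatrix.G₂ W) :
    ∃ w : W, ∀ a, IsRoot cs hp.isCartan a → rep cs hp.isCartan w a = -a := by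
  refine neg_of_tab cs hp.isCartan (w := (cs.wordProd [0, 1]) ^ 3) ?_
  have h1 : Tab cs hp.isCartan (cs.wordProd [0, 1]) CG2 :=
    tab_word cs hp.isCartan cartanG2 coxG2
  have h2 : Tab cs hp.isCartan ((cs.wordProd [0, 1]) ^ 2) CG22 := by
    rw [CG22_eq, pow_two]; exact h1.mul h1
  have g3 : Tab cs hp.isCartan ((cs.wordProd [0, 1]) ^ 3) (negT 2) := by
    have := h1.mul h2; rwa [← pow_succ', CG2_fin] at this
  exact g3

end G2

/-! ### `F4` -/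

section F4

def AF4 : Fin 4 → Fin 4 → ℤ :=
  ![![2, -1, 0, 0], ![-1, 2, -2, 0], ![0, -1, 2, -1], ![0, 0, -1, 2]]

def CF4 : Fin 4 → Fin 4 → ℤ :=
  ![![0, 1, 0, 0], ![1, 1, 1, 0], ![0, 0, 0, 1], ![-2, -2, -1, -1]]

theorem cartanF4 : cartanOf chevF4 4 = AF4 := by decide +kernel

theorem coxF4 (i m : Fin 4) : word AF4 [0, 1, 2, 3] (Pi.single i 1) m = CF4 i m := by
  revert i m
  decide +kernel

def CF42 : Fin 4 → Fin 4 → ℤ :=
  ![![1, 1, 1, 0], ![1, 2, 1, 1], ![-2, -2, -1, -1], ![0, -2, -1, 0]]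

theorem CF42_eq : CF42 = mulT CF4 CF4 := by decide +kernel

def CF44 : Fin 4 → Fin 4 → ℤ :=
  ![![0, 1, 1, 0], ![1, 1, 1, 1], ![-2, -2, -2, -1], ![0, -2, -1, -1]]

theorem CF44_eq : CF44 = mulT CF42 CF42 := by decide +kernel

theorem CF4_fin : mulT CF44 CF42 = negT 4 := by decide +kernel

theorem negF4 {W : Type*} [Group W] (hp : IsType chevF4 4 CoxeterMatrix.F₄) (cs : CoxeterSystem CoxeterMatrix.F₄ W) :
    ∃ w : W, ∀ a, IsRoot cs hp.isCartan a → rep cs hp.isCartan w a = -a := by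
  refine neg_of_tab cs hp.isCartan (w := (cs.wordProd [0, 1, 2, 3]) ^ 6) ?_
  have h1 : Tab cs hp.isCartan (cs.wordProd [0, 1, 2, 3]) CF4 :=
    tab_word cs hp.isCartan cartanF4 coxF4
  have h2 : Tab cs hp.isCartan ((cs.wordProd [0, 1, 2, 3]) ^ 2) CF42 := by
    rw [CF42_eq, pow_two]; exact h1.mul h1
  have h4 : Tab cs hp.isCartan ((cs.wordProd [0, 1, 2, 3]) ^ 4) CF44 := by
    have := h2.mul h2; rwa [← pow_add, ← CF44_eq] at this
  have g6 : Tab cs hp.isCartan ((cs.wordProd [0, 1, 2, 3]) ^ 6) (negT 4) := by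
    have := h2.mul h4; rwa [← pow_add, CF4_fin] at this
  exact g6

end F4

/-! ### `D4` -/

section D4

def AD4 : Fin 4 → Fin 4 → ℤ :=
  ![![2, -1, 0, 0], ![-1, 2, -1, -1], ![0, -1, 2, 0], ![0, -1, 0, 2]]

def CD4 : Fin 4 → Fin 4 → ℤ :=
  ![![0, 1, 0, 0], ![1, 1, 1, 1], ![-1, -1, -1, 0], ![-1, -1, 0, -1]]

theorem cartanD4 : cartanOf chevD4 4 = AD4 := by decide +kernel

theorem coxD4 (i m : Fin 4) : word AD4 [0, 1, 2, 3] (Pi.single i 1) m = CD4 i m := by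
  revert i m
  decide +kernel

def CD42 : Fin 4 → Fin 4 → ℤ :=
  ![![1, 1, 1, 1], ![-1, 0, 0, 0], ![0, -1, 0, -1], ![0, -1, -1, 0]]

theorem CD42_eq : CD42 = mulT CD4 CD4 := by decide +kernel

theorem CD4_fin : mulT CD42 CD4 = negT 4 := by decide +kernel

theorem negD4 {W : Type*} [Group W] (hp : IsType chevD4 4 coxeterD4) (cs : CoxeterSystem coxeterD4 W) :
    ∃ w : W, ∀ a, IsRoot cs hp.isCartan a → rep cs hp.isCartan w a = -a := by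
  refine neg_of_tab cs hp.isCartan (w := (cs.wordProd [0, 1, 2, 3]) ^ 3) ?_
  have h1 : Tab cs hp.isCartan (cs.wordProd [0, 1, 2, 3]) CD4 :=
    tab_word cs hp.isCartan cartanD4 coxD4
  have h2 : Tab cs hp.isCartan ((cs.wordProd [0, 1, 2, 3]) ^ 2) CD42 := by
    rw [CD42_eq, pow_two]; exact h1.mul h1
  have g3 : Tab cs hp.isCartan ((cs.wordProd [0, 1, 2, 3]) ^ 3) (negT 4) := by
    have := h1.mul h2; rwa [← pow_succ', CD4_fin] at this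
  exact g3

end D4

/-! ### `E7` -/

section E7

def AE7 : Fin 7 → Fin 7 → ℤ :=
  ![![2, 0, -1, 0, 0, 0, 0], ![0, 2, 0, -1, 0, 0, 0], ![-1, 0, 2, -1, 0, 0, 0], ![0, -1, -1, 2, -1, 0, 0], ![0, 0, 0, -1, 2, -1, 0], ![0, 0, 0, 0, -1, 2, -1], ![0, 0, 0, 0, 0, -1, 2]]

def CE7 : Fin 7 → Fin 7 → ℤ :=
  ![![0, 0, 1, 0, 0, 0, 0], ![1, 0, 1, 1, 0, 0, 0], ![0, 1, 0, 1, 0, 0, 0], ![0, 0, 0, 0, 1, 0, 0], ![0, 0, 0, 0, 0, 1, 0], ![0, 0, 0, 0, 0, 0, 1], ![-1, -1, -1, -1, -1, -1, -1]]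

theorem cartanE7 : cartanOf chevE7 7 = AE7 := by decide +kernel

theorem coxE7 (i m : Fin 7) : word AE7 [0, 1, 2, 3, 4, 5, 6] (Pi.single i 1) m = CE7 i m := by
  revert i m
  decide +kernel

def CE72 : Fin 7 → Fin 7 → ℤ :=
  ![![0, 1, 0, 1, 0, 0, 0], ![0, 1, 1, 1, 1, 0, 0], ![1, 0, 1, 1, 1, 0, 0], ![0, 0, 0, 0, 0, 1, 0], ![0, 0, 0, 0, 0, 0, 1], ![-1, -1, -1, -1, -1, -1, -1], ![0, 0, -1, -1, 0, 0, 0]]

theorem CE72_eq : CE72 = mulT CE7 CE7 := by decide +kernel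

def CE74 : Fin 7 → Fin 7 → ℤ :=
  ![![0, 1, 1, 1, 1, 1, 0], ![1, 1, 2, 2, 2, 1, 1], ![1, 1, 1, 2, 1, 1, 1], ![-1, -1, -1, -1, -1, -1, -1], ![0, 0, -1, -1, 0, 0, 0], ![0, -1, 0, -1, -1, 0, 0], ![-1, 0, -1, -1, -1, -1, 0]]

theorem CE74_eq : CE74 = mulT CE72 CE72 := by decide +kernel

def CE78 : Fin 7 → Fin 7 → ℤ :=
  ![![1, 0, 1, 1, 1, 1, 1], ![0, 1, 0, 1, 1, 1, 1], ![-1, 0, 0, 0, 0, 0, 0], ![0, -1, -1, -1, -1, -1, -1], ![0, 0, 0, -1, 0, 0, 0], ![0, 0, 0, 0, -1, 0, 0], ![0, 0, 0, 0, 0, -1, 0]]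

theorem CE78_eq : CE78 = mulT CE74 CE74 := by decide +kernel

theorem CE7_fin : mulT CE78 CE7 = negT 7 := by decide +kernel

theorem negE7 {W : Type*} [Group W] (hp : IsType chevE7 7 CoxeterMatrix.E₇) (cs : CoxeterSystem CoxeterMatrix.E₇ W) :
    ∃ w : W, ∀ a, IsRoot cs hp.isCartan a → rep cs hp.isCartan w a = -a := by
  refine neg_of_tab cs hp.isCartan (w := (cs.wordProd [0, 1, 2, 3, 4, 5, 6]) ^ 9) ?_
  have h1 : Tab cs hp.isCartan (cs.wordProd [0, 1, 2, 3, 4, 5, 6]) CE7 :=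
    tab_word cs hp.isCartan cartanE7 coxE7
  have h2 : Tab cs hp.isCartan ((cs.wordProd [0, 1, 2, 3, 4, 5, 6]) ^ 2) CE72 := by
    rw [CE72_eq, pow_two]; exact h1.mul h1
  have h4 : Tab cs hp.isCartan ((cs.wordProd [0, 1, 2, 3, 4, 5, 6]) ^ 4) CE74 := by
    have := h2.mul h2; rwa [← pow_add, ← CE74_eq] at this
  have h8 : Tab cs hp.isCartan ((cs.wordProd [0, 1, 2, 3, 4, 5, 6]) ^ 8) CE78 := by
    have := h4.mul h4; rwa [← pow_add, ← CE78_eq] at this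
  have g9 : Tab cs hp.isCartan ((cs.wordProd [0, 1, 2, 3, 4, 5, 6]) ^ 9) (negT 7) := by
    have := h1.mul h8; rwa [← pow_succ', CE7_fin] at this
  exact g9

end E7

/-! ### `E8` -/

section E8

def AE8 : Fin 8 → Fin 8 → ℤ :=
  ![![2, 0, -1, 0, 0, 0, 0, 0], ![0, 2, 0, -1, 0, 0, 0, 0], ![-1, 0, 2, -1, 0, 0, 0, 0], ![0, -1, -1, 2, -1, 0, 0, 0], ![0, 0, 0, -1, 2, -1, 0, 0], ![0, 0, 0, 0, -1, 2, -1, 0], ![0, 0, 0, 0, 0, -1, 2, -1], ![0, 0, 0, 0, 0, 0, -1, 2]]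

def CE8 : Fin 8 → Fin 8 → ℤ :=
  ![![0, 0, 1, 0, 0, 0, 0, 0], ![1, 0, 1, 1, 0, 0, 0, 0], ![0, 1, 0, 1, 0, 0, 0, 0], ![0, 0, 0, 0, 1, 0, 0, 0], ![0, 0, 0, 0, 0, 1, 0, 0], ![0, 0, 0, 0, 0, 0, 1, 0], ![0, 0, 0, 0, 0, 0, 0, 1], ![-1, -1, -1, -1, -1, -1, -1, -1]]

theorem cartanE8 : cartanOf chevE8 8 = AE8 := by decide +kernel

theorem coxE8 (i m : Fin 8) : word AE8 [0, 1, 2, 3, 4, 5, 6, 7] (Pi.single i 1) m = CE8 i m := by
  revert i m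
  decide +kernel

def CE82 : Fin 8 → Fin 8 → ℤ :=
  ![![0, 1, 0, 1, 0, 0, 0, 0], ![0, 1, 1, 1, 1, 0, 0, 0], ![1, 0, 1, 1, 1, 0, 0, 0], ![0, 0, 0, 0, 0, 1, 0, 0], ![0, 0, 0, 0, 0, 0, 1, 0], ![0, 0, 0, 0, 0, 0, 0, 1], ![-1, -1, -1, -1, -1, -1, -1, -1], ![0, 0, -1, -1, 0, 0, 0, 0]]

theorem CE82_eq : CE82 = mulT CE8 CE8 := by decide +kernel

def CE84 : Fin 8 → Fin 8 → ℤ :=
  ![![0, 1, 1, 1, 1, 1, 0, 0], ![1, 1, 2, 2, 2, 1, 1, 0], ![1, 1, 1, 2, 1, 1, 1, 0], ![0, 0, 0, 0, 0, 0, 0, 1], ![-1, -1, -1, -1, -1, -1, -1, -1], ![0, 0, -1, -1, 0, 0, 0, 0], ![0, -1, 0, -1, -1, 0, 0, 0], ![-1, 0, -1, -1, -1, -1, 0, 0]]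

theorem CE84_eq : CE84 = mulT CE82 CE82 := by decide +kernel

def CE88 : Fin 8 → Fin 8 → ℤ :=
  ![![1, 1, 1, 2, 2, 1, 1, 0], ![1, 1, 2, 3, 2, 2, 1, 0], ![1, 1, 2, 2, 2, 2, 1, 1], ![-1, 0, -1, -1, -1, -1, 0, 0], ![0, -1, -1, -1, -1, -1, -1, 0], ![-1, -1, -1, -2, -1, -1, -1, -1], ![0, 0, -1, -1, -1, 0, 0, 0], ![0, -1, 0, -1, -1, -1, 0, 0]]

theorem CE88_eq : CE88 = mulT CE84 CE84 := by decide +kernel

def CE812 : Fin 8 → Fin 8 → ℤ :=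
  ![![0, 0, 1, 1, 1, 1, 0, 0], ![1, 1, 1, 2, 2, 2, 1, 1], ![0, 1, 0, 1, 1, 1, 1, 0], ![0, -1, 0, -1, -1, -1, 0, 0], ![-1, 0, -1, -1, -1, -1, -1, 0], ![0, -1, -1, -1, -1, -1, -1, -1], ![0, 0, 0, -1, 0, 0, 0, 0], ![0, 0, 0, 0, -1, 0, 0, 0]]

theorem CE812_eq : CE812 = mulT CE88 CE84 := by decide +kernel

def CE814 : Fin 8 → Fin 8 → ℤ :=
  ![![1, 0, 1, 1, 1, 1, 1, 1], ![0, 1, 0, 1, 1, 1, 1, 1], ![-1, 0, 0, 0, 0, 0, 0, 0], ![0, -1, -1, -1, -1, -1, -1, -1], ![0, 0, 0, -1, 0, 0, 0, 0], ![0, 0, 0, 0, -1, 0, 0, 0], ![0, 0, 0, 0, 0, -1, 0, 0], ![0, 0, 0, 0, 0, 0, -1, 0]]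

theorem CE814_eq : CE814 = mulT CE812 CE82 := by decide +kernel

theorem CE8_fin : mulT CE814 CE8 = negT 8 := by decide +kernel

theorem negE8 {W : Type*} [Group W] (hp : IsType chevE8 8 CoxeterMatrix.E₈) (cs : CoxeterSystem CoxeterMatrix.E₈ W) :
    ∃ w : W, ∀ a, IsRoot cs hp.isCartan a → rep cs hp.isCartan w a = -a := by
  refine neg_of_tab cs hp.isCartan (w := (cs.wordProd [0, 1, 2, 3, 4, 5, 6, 7]) ^ 15) ?_
  have h1 : Tab cs hp.isCartan (cs.wordProd [0, 1, 2, 3, 4, 5, 6, 7]) CE8 :=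
    tab_word cs hp.isCartan cartanE8 coxE8
  have h2 : Tab cs hp.isCartan ((cs.wordProd [0, 1, 2, 3, 4, 5, 6, 7]) ^ 2) CE82 := by
    rw [CE82_eq, pow_two]; exact h1.mul h1
  have h4 : Tab cs hp.isCartan ((cs.wordProd [0, 1, 2, 3, 4, 5, 6, 7]) ^ 4) CE84 := by
    have := h2.mul h2; rwa [← pow_add, ← CE84_eq] at this
  have h8 : Tab cs hp.isCartan ((cs.wordProd [0, 1, 2, 3, 4, 5, 6, 7]) ^ 8) CE88 := by
    have := h4.mul h4; rwa [← pow_add, ← CE88_eq] at this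
  have g12 : Tab cs hp.isCartan ((cs.wordProd [0, 1, 2, 3, 4, 5, 6, 7]) ^ 12) CE812 := by
    have := h4.mul h8; rwa [← pow_add, ← CE812_eq] at this
  have g14 : Tab cs hp.isCartan ((cs.wordProd [0, 1, 2, 3, 4, 5, 6, 7]) ^ 14) CE814 := by
    have := h2.mul g12; rwa [← pow_add, ← CE814_eq] at this
  have g15 : Tab cs hp.isCartan ((cs.wordProd [0, 1, 2, 3, 4, 5, 6, 7]) ^ 15) (negT 8) := by
    have := h1.mul g14; rwa [← pow_succ', CE8_fin] at this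
  exact g15

end E8

end Cfsg.Agent.H696.GmnNeg
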