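import Cfsg.Agent.H696.GmnUntw
import Cfsg.Agent.H795.TorSub
import Cfsg.Agent.H712.GmnAb

/-!
# `p` prime to the order of the Weyl group, `p` greater than the rank

* `rowS_of_weyl` : finite simple groups embedded in `D.group k`.
-/

set_option autoImplicit false
set_option linter.unusedSectionVars false

namespace Cfsg.Agent.H696.GmnAbel

open CoxeterSystem Subgroup Cfsg Cfsg.Lie Cfsg.Lie.ChevalleyDatum
open Cfsg.Agent.ChevalleyStructure Cfsg.Agent.ChevalleyStructure.Elts Cfsg.Agent.ChevalleyStructure.CoxeterGeom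
  Cfsg.Agent.ChevalleyStructure.CoxeterGeomTypes Cfsg.Agent.ChevalleyStructure.NPerm
open Cfsg.Agent.Tits.Roots Cfsg.Agent.Tits.Core Cfsg.Agent.Nodes Cfsg.Agent.Nodes.Reps Cfsg.Agent.Nodes.BNOf
  Cfsg.Agent.Nodes.RGDChev Cfsg.Agent.Nodes.Bruhat
open Cfsg.Agent.KFacts.RgdField Cfsg.Agent.KFacts.RgdChevCoord
open Cfsg.Agent.BpExc Cfsg.Agent.BpExc.TorCent Cfsg.Agent.BpExc.TorChev Cfsg.Agent.BpExc.Tow
open Cfsg.Agent.BpExc.TowChev
open Cfsg.Agent.H696.GmnToral Cfsg.Agent.H712.Gmn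

universe u v

variable {D : ChevalleyDatum} {l : ℕ} {M : CoxeterMatrix (Fin l)} (hp : IsType D l M) {k : Type u} [Field k]
  [IsAlgClosed k] (hk : LocFin k) (r : ℕ) [Fact r.Prime] [CharP k r]

include hp hk r in
/-- **`p` prime to the order of the Weyl group and greater than the rank.** -/
theorem rowS_of_weyl {p : ℕ} [hpp : Fact p.Prime] (hpr : p ≠ r) (hW : ¬ p ∣ Nat.card M.Group) (hl : l < p)
    {S : Type*} [Group S] [Finite S] [IsSimpleGroup S] (hna : ¬ ∀ x y : S, x * y = y * x)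
    (hd : p ∣ Nat.card S) {ι : S →* ↥(D.group k)} (hι : Function.Injective ι) : RowS p S := by
  have key : ∀ Q : Sylow p S, ∃ g : ↥(D.group k), ∀ x ∈ Q, g * ι x * g⁻¹ ∈ TT D k := by
    intro Q
    have h1 : IsPGroup p ↥((Q : Subgroup S).map ι) := Q.isPGroup'.map ι
    have hfin : Finite ↥((Q : Subgroup S).map ι) :=
      Set.Finite.to_subtype (s := (((Q : Subgroup S).map ι : Subgroup ↥(D.group k)) : Set ↥(D.group k))) (by
        rw [Subgroup.coe_map]; exact Set.toFinite _)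
    obtain ⟨g, hg⟩ := H795.TorSub.exists_toral_of_not_dvd hp r hk hpp.out hpr hW h1
    exact ⟨g, fun x hx => hg _ ⟨x, hx, rfl⟩⟩
  refine RowS.of_abelian hna hd (fun Q x hx y hy => ?_) (fun Q => ?_)
  · obtain ⟨g, hg⟩ := key Q
    have h1 := TT_comm hp _ (hg x hx) _ (hg y hy)
    apply hι
    rw [map_mul, map_mul]
    have h2 : g * (ι x * ι y) * g⁻¹ = g * (ι y * ι x) * g⁻¹ := by
      calc g * (ι x * ι y) * g⁻¹ = g * ι x * g⁻¹ * (g * ι y * g⁻¹) := by group
        _ = g * ι y * g⁻¹ * (g * ι x * g⁻¹) := h1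
        _ = _ := by group
    exact mul_left_cancel (mul_right_cancel h2)
  · obtain ⟨g, hg⟩ := key Q
    have : NeZero p := ⟨hpp.out.ne_zero⟩
    let f : {x : S // x ∈ Q ∧ x ^ p = 1} → (Fin l → ↥(rootsOfUnity p k)) := fun x i =>
      rootsOfUnity.mkOfPowEq (ch hp (sr i) (g * ι x.1 * g⁻¹)) (by
        have h1 := hg x.1 x.2.1
        have h2 := H129.TorusChar.cX_pow hp h1 p (sr i)
        rw [H129.TorusChar.cX_sr, H129.TorusChar.cX_sr] at h2
        rw [← h2, conj_pow, ← map_pow, x.2.2, map_one, mul_one, mul_inv_cancel]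
        have h3 := H129.TorusChar.cX_one hp (k := k) (sr i)
        rwa [H129.TorusChar.cX_sr] at h3)
    have hf : Function.Injective f := by
      intro x y hxy
      have h1 : g * ι x.1 * g⁻¹ = g * ι y.1 * g⁻¹ := by
        refine H129.TorusChar.cX_inj hp (hg _ x.2.1) (hg _ y.2.1) fun i => ?_
        rw [H129.TorusChar.cX_sr, H129.TorusChar.cX_sr]
        have h2 := congrFun hxy i
        have h3 := congrArg (fun z : ↥(rootsOfUnity p k) => ((z : kˣ) : k)) h2
        exact h3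
      exact Subtype.ext (hι (mul_left_cancel (mul_right_cancel h1)))
    calc Nat.card {x : S // x ∈ Q ∧ x ^ p = 1} ≤ Nat.card (Fin l → ↥(rootsOfUnity p k)) :=
          Nat.card_le_card_of_injective f hf
      _ = Nat.card ↥(rootsOfUnity p k) ^ l := by rw [Nat.card_fun, Nat.card_fin]
      _ ≤ p ^ l := Nat.pow_le_pow_left (card_rootsOfUnity k p) l
      _ < p ^ p := Nat.pow_lt_pow_right hpp.out.one_lt hl

end Cfsg.Agent.H696.GmnAbel
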