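import Cfsg.Agent.H696.GmnUntw
import Cfsg.Agent.H720.TwFr
import Cfsg.Agent.S1071

/-!
# Guralnick-Malle-Navarro row: `³D₄(q)`

`rowS_d4` : `RowS p ³D₄(q)` for an odd prime `p` not dividing `q`: all elements of order `p` are real.
-/

set_option autoImplicit false
set_option linter.unusedSectionVars false

namespace Cfsg.Agent.H696.GmnTwD4

open CoxeterSystem Subgroup Cfsg Cfsg.Lie Cfsg.Lie.ChevalleyDatum
open Cfsg.Agent.BpExc Cfsg.Agent.BpExc.TowChev Cfsg.Agent.BpExc.LangFr Cfsg.Agent.BpExc.RowsUntw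
open Cfsg.Agent.H696.GmnToral Cfsg.Agent.H696.GmnUntw Cfsg.Agent.H712.Gmn Cfsg.Agent.H720.TwFr

variable {K : Type} [Field K] [Fintype K] {q r n p : ℕ} [Fact r.Prime] [CharP K r] [Fact p.Prime]

theorem isConj_inv_d4 (hpr : p ≠ r) (hn0 : 0 < n) (hn : q = r ^ n) (hK : Fintype.card K = q ^ 3)
    {z : ↥(twistedD4 K q)} (hz : z ^ p = 1) : IsConj z z⁻¹ := by
  obtain ⟨f⟩ := exists_emb r K
  have hk : LocFin (AlgebraicClosure (ZMod r)) := locFin_of_isAlgebraic r _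
  have hq : IsPrimePow q := (isPrimePow_nat_iff _).2 ⟨r, n, Fact.out, hn0, hn.symm⟩
  have hle := tw4_le (K := K) hq hK
  have hZ : center ↥(chevD4.group (AlgebraicClosure (ZMod r))) = ⊥ :=
    center_eq_bot_of_simple (S1054.result chevD4 (by simp))
  obtain ⟨w, hw⟩ := TorAll.exists_toral' hp4 r (Fact.out : p.Prime) hpr (y := em4 f hle z) (by
    rw [← map_pow, hz, map_one])
  obtain ⟨y, hy, hyz⟩ := real_of_neg hp4 coxeterD4.toCoxeterSystem hk hZ hn0 (isFrob_sig4 r n)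
    (fr_sig4 hk r hp4 _ n) (em4_fix f r hle hn0 hn hK z) hw (GmnNeg.negD4 hp4 _)
  obtain ⟨s, rfl⟩ := desc4 f r hle hk hn0 hn hK hy
  rw [← map_inv, ← map_inv, ← map_mul, ← map_mul] at hyz
  have h2 := em4_injective f hle hyz
  rw [isConj_iff]
  exact ⟨s⁻¹, by rw [inv_inv]; exact h2⟩

theorem rowS_d4 (hp2 : p ≠ 2) (hpr : p ≠ r) (hn0 : 0 < n) (hn : q = r ^ n) (hK : Fintype.card K = q ^ 3)
    (hd : p ∣ Nat.card ↥(twistedD4 K q)) : RowS p ↥(twistedD4 K q) := by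
  have hq : IsPrimePow q := (isPrimePow_nat_iff _).2 ⟨r, n, Fact.out, hn0, hn.symm⟩
  exact RowS.of_real hp2 (center_eq_bot_of_simple (S1071.result hq hK)) hd fun _ _ hz =>
    isConj_inv_d4 hpr hn0 hn hK hz

end Cfsg.Agent.H696.GmnTwD4
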