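import Cfsg.Agent.H696.GmnTe6
import Cfsg.Agent.H712.GmnTable

/-!
# The row `²E₆(q)` in the form of `H712/GmnTable`
-/

set_option autoImplicit false

open Subgroup

namespace Cfsg.Agent.H696.GmnRowsTab

open Cfsg Cfsg.Agent.H712.Gmn Cfsg.Agent.H712.GmnTable

theorem te6 {p : ℕ} [hp : Fact p.Prime] (hp2 : p ≠ 2) : RowFor p (fun X _ => ∃ (K : Type) (_ : Field K) (_ : Fintype K)
    (q : ℕ), (p : K) ≠ 0 ∧ IsPrimePow q ∧ Fintype.card K = q ^ 2 ∧ Nonempty (X ≃* Lie.twistedE6 K q)) := by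
  rintro X _ _ _ hna hd ⟨K, iF, iN, q, hF, hq, hK, ⟨e⟩⟩
  obtain ⟨r, hr⟩ := CharP.exists K
  have hrp : Fact r.Prime := ⟨CharP.char_is_prime K r⟩
  have hpr : p ≠ r := by
    rintro rfl
    exact hF (CharP.cast_eq_zero K p)
  obtain ⟨s, n, hs, hn, hsn⟩ := (isPrimePow_nat_iff _).1 hq
  have hsr : s = r := by
    obtain ⟨k, hrp', hk⟩ := FiniteField.card K r
    have h1 : s ∣ r ^ (k : ℕ) := by
      rw [← hk, hK, ← hsn, ← pow_mul]
      exact dvd_pow_self s (by omega)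
    exact (Nat.prime_dvd_prime_iff_eq hs hrp.out).1 (hs.dvd_of_dvd_pow h1)
  subst hsr
  refine RowS.congr e.symm (H696.GmnTe6.rowS_te6 hp2 hpr hn hsn.symm hK ?_)
  rwa [← Nat.card_congr e.toEquiv]

end Cfsg.Agent.H696.GmnRowsTab
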