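import Cfsg.Agent.H696.LevCop

/-!
# `{2, 3}`-subgroups of `C(x)^σ` in the fixed points of a Frobenius automorphism of `D.group k`, characteristic `2`,
more than two elements (helper696; modelled on `H605.Exc.EndNorm`, `H605.Exc.FixNorm`)
-/

set_option autoImplicit false
set_option linter.unusedSectionVars false

namespace Cfsg.Agent.H696.FixNorm2

open CoxeterSystem Cfsg Cfsg.Lie Cfsg.Lie.ChevalleyDatum
open Cfsg.Agent.ChevalleyStructure Cfsg.Agent.ChevalleyStructure.Elts Cfsg.Agent.ChevalleyStructure.CoxeterGeom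
  Cfsg.Agent.ChevalleyStructure.CoxeterGeomTypes Cfsg.Agent.ChevalleyStructure.NPerm
open Cfsg.Agent.Tits.Roots Cfsg.Agent.Tits.Core Cfsg.Agent.Nodes Cfsg.Agent.Nodes.Reps Cfsg.Agent.Nodes.BNOf
  Cfsg.Agent.Nodes.RGDChev Cfsg.Agent.Nodes.Bruhat Cfsg.Agent.Nodes.NormalForm
open Cfsg.Agent.KFacts.RgdField Cfsg.Agent.KFacts.RgdChevCoord
open Cfsg.Agent.BpExc Cfsg.Agent.BpExc.TorCent Cfsg.Agent.BpExc.TorChev Cfsg.Agent.BpExc.Tow
  Cfsg.Agent.BpExc.TowChev Cfsg.Agent.BpExc.Fr Cfsg.Agent.BpExc.Pair Cfsg.Agent.BpExc.LangFr Cfsg.Agent.GpExc.Field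
  Cfsg.Agent.BpExc.NInst Cfsg.Agent.BpExc.NChev Cfsg.Agent.BpExc.Asm
open Cfsg.Agent.ChevalleyStructure.SL2Hom Cfsg.Agent.ETable.Exc Cfsg.Agent.H666.FixChev
open scoped commutatorElement

universe u v

variable {D : ChevalleyDatum} {l : ℕ} {M : CoxeterMatrix (Fin l)} (hp : IsType D l M) {k : Type u} [Field k]
  {W : Type v} [Group W] (cs : CoxeterSystem M W)

/-- **The data of `NInst.Dat` at a finite level.** -/
theorem exists_dat' [IsAlgClosed k] (hk : LocFin k) {r e : ℕ} [Fact r.Prime] [CharP k r]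
    {t : ↥(D.group k)} (ht : t ∈ TT D k) (he : 0 < e) {τ : MulAut ↥(D.group k)}
    (hτ : IsFrob r e τ) {g : (Fin l → ℤ) ≃+ (Fin l → ℤ)} (F : Fr cs hp.isCartan (TT D k) (XX D l k) τ g)
    (hτt : τ t = t) (hpos : ∀ a ∈ Sx cs hp.isCartan (ch hp) t, 0 ≤ a → 0 ≤ g a) [Finite ↥(fixC τ t)] (E₀ : Lev k) :
    ∃ E : Lev k, E₀ ≤ E ∧ Dat ((tow (k := k) hp cs hk r).rgd E) t (Sx cs hp.isCartan (ch hp) t) τ g := by
  have := finite_W hp cs
  have H := tow (k := k) hp cs hk r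
  have C := coordsL (k := k) hp cs hk r
  have hA := chAddL (k := k) hp cs hk r
  have hG := GG_eq_top (k := k) hp cs hk
  have hTL := TL_eq (k := k) hp hk
  have hXL := XL_eq (k := k) hp hk
  have F' : Fr cs hp.isCartan (TL (Tj hp (k := k))) (XL (Xj hp (k := k))) τ g := by rw [hTL, hXL]; exact F
  have hsep : ∀ a, IsRoot cs hp.isCartan a → ∃ s ∈ TL (Tj hp (k := k)), ∀ u ∈ XL (Xj hp (k := k)) a,
      u * s = s * u → u = 1 := by
    rw [hTL, hXL]
    exact fun a ha => sep hp cs hk r ha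
  -- the level
  obtain ⟨E1, hE1⟩ := HX.fr_level hp cs hk hτ F
  obtain ⟨E2, hE2⟩ := HX.exists_fixed_level hp cs hk he hτ F
  obtain ⟨E3, hE3⟩ := exists_TT hp hk ht
  obtain ⟨E4, hE4⟩ := exists_level_finite hp hk (S := (fixC τ t : Set ↥(D.group k))) (Set.toFinite _)
  obtain ⟨E5, a1, a2⟩ := dir_lev hk E1 E2
  obtain ⟨E6, a3, a4⟩ := dir_lev hk E3 E4
  obtain ⟨E7, b3, b4⟩ := dir_lev hk E5 E6
  obtain ⟨E, b5, b6⟩ := dir_lev hk E7 E₀
  have b1 := b3.trans b5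
  have b2 := b4.trans b5
  have FE := hE1 E (a1.trans b1)
  have hX : ∀ a, Xj hp E a ≤ XX D l k a := fun a => by rw [← hXL]; exact le_XL E a
  obtain ⟨t', ht', htt⟩ := hE3 E (a3.trans b2)
  have htE : t ∈ Tj hp E := ⟨t', ht', htt⟩
  exact ⟨E, b6,
    { mem := htE
      root := fun a ha => ha.1
      neg := fun a ha => chi_neg C ht hA ha
      cent := fun a ha => (hX a).trans (X_le_centralizer C ht ha)
      of_cent := fun a ha u hu hu1 hc => mem_Sx_of_centralizer C ht ha (hX a hu) hu1 hc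
      fr := FE
      fix := hτt
      pos := hpos
      rp := fun w kk hkk => by
        obtain ⟨w', hw'⟩ := rp_fr H hG hsep F' (H.rp_up hkk)
        obtain ⟨k0, h0, h0'⟩ := H.exists_rp w'
        have h1 : k0⁻¹ * τ kk ∈ TT D k := by
          rw [← hTL]
          exact h0'.unique hw'
        have h2 : k0⁻¹ * τ kk ∈ (emb hp.inList E.1.subtype).range := by
          rw [← GGj_eq hp cs]
          refine mul_mem (inv_mem ?_) (fr_GG FE ?_)
          · exact (mem_GG (H.rgd E)).2 ⟨w', cell_of_rp (h0 E)⟩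
          · exact (mem_GG (H.rgd E)).2 ⟨w, cell_of_rp hkk⟩
        have h3 : k0⁻¹ * τ kk ∈ Tj hp E := (HX.mem_Tj hp cs hk r).2 ⟨h1, h2⟩
        have e : τ kk = k0 * (k0⁻¹ * τ kk) := by group
        exact ⟨w', by rw [e]; exact (h0 E).mul_mem_right h3⟩
      comm := fun x hx y hy hxy hxy' a ha b hb => by
        have h1 := CommZ.comm_mem_Zj hp cs E hx.1 hy.1 hxy hxy' ha hb
        refine RGD.Sup_mono (S := CommZ.combZ cs hp x y) ?_ h1
        rintro z ⟨hz, i, j, hi, hj, e⟩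
        obtain ⟨φ, h0, hadd, hφ⟩ := hA t ht
        have hn : ∀ (i : ℕ) (x : Fin l → ℤ), φ (i • x) = φ x ^ i := by
          intro i x
          induction i with
          | zero => rw [zero_smul, pow_zero, h0]
          | succ i ih => rw [succ_nsmul, hadd, ih, pow_succ]
        refine ⟨⟨hz, ?_⟩, i, j, hi, hj, e⟩
        rw [hφ z hz, e, hadd, hn, hn, ← hφ x hx.1, ← hφ y hy.1, hx.2, hy.2, one_pow, one_pow, one_mul]
      fixed := fun a ha => hE2 E (a2.trans b1) a ha.1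
      le := fun y hy => by
        rw [GGj_eq hp cs]
        exact hE4 E (a4.trans b2) hy }⟩

/-- **`{r, s}`-subgroups of `C_Y(t)^τ` above a Sylow `r`-subgroup normalise it.** -/
theorem endNorm2 [IsAlgClosed k] (hk : LocFin k) {e q : ℕ} [Fact (Nat.Prime 2)] [CharP k 2] (hq : q.Prime) (hqr : q ≠ 2)
    {t : ↥(D.group k)} (ht : t ∈ TT D k) (htq : t ^ q = 1) (he : 2 ≤ e) {τ : MulAut ↥(D.group k)}
    (hτ : IsFrob 2 e τ) {g : (Fin l → ℤ) ≃+ (Fin l → ℤ)} (F : Fr cs hp.isCartan (TT D k) (XX D l k) τ g)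
    (hτt : τ t = t) (hpos : ∀ a ∈ Sx cs hp.isCartan (ch hp) t, 0 ≤ a → 0 ≤ g a) [Finite ↥(fixC τ t)]
    (hne : (Sx cs hp.isCartan (ch hp) t).Nonempty) :
    ∃ V : Subgroup ↥(D.group k), (∃ Q : Sylow 2 ↥(fixC τ t), (Q : Subgroup ↥(fixC τ t)) = V.subgroupOf (fixC τ t)) ∧
      (∃ u ∈ V, u ∈ fixC τ t ∧ u ≠ 1) ∧
      ∀ E : Subgroup ↥(D.group k), E ≤ fixC τ t → V ⊓ fixC τ t ≤ E → (∀ z ∈ E, ∃ i j : ℕ, z ^ (2 ^ i * 3 ^ j) = 1) →
        ∀ y ∈ E, y ∈ Subgroup.normalizer (V : Set ↥(D.group k)) := by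
  have := finite_W hp cs
  obtain ⟨E₀, hE₀⟩ := LevCop.cop_lev hp cs hk he hτ F (S := Sx cs hp.isCartan (ch hp) t) (fun a ha => ha.1)
  obtain ⟨E, hEE, Dt⟩ := exists_dat' hp cs hk (r := 2) ht (by omega) hτ F hτt hpos E₀
  have HC := hE₀ E hEE Dt.fixed
  have H := tow (k := k) hp cs hk 2
  have C := coordsL (k := k) hp cs hk 2
  have hA := chAddL (k := k) hp cs hk 2
  have hTL := TL_eq (k := k) hp hk
  have hXL := XL_eq (k := k) hp hk
  have hT : Tj hp E ≤ TT D k := by rw [← hTL]; exact le_TL E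
  have C' : Coords cs hp.isCartan (TL (Tj hp (k := k))) (nc hp k) (XL (Xj hp (k := k))) (xc hp) (ch hp) := by
    rw [hTL, hXL]; exact C
  have ht' : t ∈ TL (Tj hp (k := k)) := by rw [hTL]; exact ht
  have hchi : ∀ a, IsRoot cs hp.isCartan a → ch hp a t ^ q = 1 := by
    intro a ha
    have h0 : ch hp a (1 : ↥(D.group k)) = 1 := by
      have h1 := (C.coord a ha).chi_mul (one_mem (TT D k)) (one_mem _)
      rw [mul_one] at h1
      exact (mul_eq_left₀ ((C.coord a ha).chi_ne_zero (one_mem _))).1 h1.symm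
    have h1 : ∀ m : ℕ, ch hp a (t ^ m) = ch hp a t ^ m := by
      intro m
      induction m with
      | zero => rw [pow_zero, pow_zero, h0]
      | succ m ih => rw [pow_succ, pow_succ, (C.coord a ha).chi_mul (pow_mem ht m) ht, ih]
    rw [← h1, htq, h0]
  have hPP : ∀ w kk, Rp cs (H.rgd E).nsys w kk → kk ∈ Subgroup.centralizer {t} →
      (∀ a ∈ Sx cs hp.isCartan (ch hp) t, 0 ≤ a → 0 ≤ rep cs hp.isCartan w a) →
      w ∈ PP cs hp.isCartan (ch hp) t := by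
    refine fun w kk hkk hkt hw => ⟨fun a ha => ?_, hw⟩
    have h1 := C'.chi_rp H.nsys (H.rp_up hkk) ha ht'
    have h2 : kk * t * kk⁻¹ = t := by rw [Subgroup.mem_centralizer_singleton_iff.1 hkt]; group
    rwa [h2] at h1
  obtain ⟨hPs, -⟩ := Dt.main (fun a ha b hb => TT_comm hp a (hT ha) b (hT hb)) hq hqr
    (PP cs hp.isCartan (ch hp) t) (isPGroup_PP hA ht hq hchi) hPP
  refine ⟨RGD.Sup (Xj hp E) (SP (Sx cs hp.isCartan (ch hp) t)), hPs, ?_, ?_⟩
  · obtain ⟨u, hu, hu1, hτu⟩ := Dt.exists_fixed (Ψ := SP (Sx cs hp.isCartan (ch hp) t)) (by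
      obtain ⟨a, ha⟩ := hne
      rcases ha.1.pos_or_neg with h1 | h1
      · exact ⟨a, ha, h1⟩
      · exact ⟨-a, Dt.neg a ha, neg_nonneg.2 h1⟩) subset_rfl
      (fun a ha => ⟨Dt.g_mem ha.1, Dt.pos a ha.1 ha.2⟩)
      (fun a ha b hb z hz ⟨i, j, _, _, e⟩ => ⟨hz, by
        rw [e]
        exact add_nonneg (nsmul_nonneg ha.2 i) (nsmul_nonneg hb.2 j)⟩)
    exact ⟨u, hu, mem_fixC.2 ⟨hτu, Subgroup.mem_centralizer_singleton_iff.1 (Dt.U_cent hu)⟩, hu1⟩
  · intro E' hE1 hE2 hE3 y hy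
    exact Core2.norm_of_pl Dt (sl_lev hp cs hk 2 E) HC (sx_comb cs hA ht) hE1 hE2 hE3 hy

/-- **`{r, s}`-subgroups of `C(x)^σ` above a Sylow `r`-subgroup normalise it.** -/
theorem fixNorm2 [IsAlgClosed k] (hk : LocFin k) {e q : ℕ} [Fact (Nat.Prime 2)] [CharP k 2] (hq : q.Prime) (hqr : q ≠ 2)
    {σ : MulAut ↥(D.group k)} {g : (Fin l → ℤ) ≃+ (Fin l → ℤ)} (he : 2 ≤ e) (hσ : IsFrob 2 e σ)
    (Fσ : Fr cs hp.isCartan (TT D k) (XX D l k) σ g) [Finite ↥(fixedSubgroup σ)] {x : ↥(D.group k)}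
    (hσx : σ x = x) (hxq : x ^ q = 1) {z : ↥(D.group k)} (hz : z * x * z⁻¹ ∈ TT D k)
    (hne : (Sx cs hp.isCartan (ch hp) (z * x * z⁻¹)).Nonempty) :
    ∃ V : Subgroup ↥(D.group k), (∃ Q : Sylow 2 ↥(fixC σ x), (Q : Subgroup ↥(fixC σ x)) = V.subgroupOf (fixC σ x)) ∧
      (∃ u ∈ V, u ∈ fixC σ x ∧ u ≠ 1) ∧
      ∀ E : Subgroup ↥(D.group k), E ≤ fixC σ x → V ⊓ fixC σ x ≤ E → (∀ z ∈ E, ∃ i j : ℕ, z ^ (2 ^ i * 3 ^ j) = 1) →
        ∀ y ∈ E, y ∈ Subgroup.normalizer (V : Set ↥(D.group k)) := by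
  have := finite_W hp cs
  have hTL := TL_eq (k := k) hp hk
  have hXL := XL_eq (k := k) hp hk
  have C := coordsL (k := k) hp cs hk 2
  have hA := chAddL (k := k) hp cs hk 2
  have hG := GG_eq_top (k := k) hp cs hk
  have Fσ' : Fr cs hp.isCartan (TL (Tj hp (k := k))) (XL (Xj hp (k := k))) σ g := by rw [hTL, hXL]; exact Fσ
  set t : ↥(D.group k) := z * x * z⁻¹ with ht
  have ht' : t ∈ TL (Tj hp (k := k)) := by rw [hTL]; exact hz
  have htq : t ^ q = 1 := by rw [ht, conj_pow, hxq, mul_one, mul_inv_cancel]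
  have C' : Coords cs hp.isCartan (TL (Tj hp (k := k))) (nc hp k) (XL (Xj hp (k := k))) (xc hp) (ch hp) := by
    rw [hTL, hXL]; exact C
  have hA' : ChAdd cs hp.isCartan (TL (Tj hp (k := k))) (ch (K := k) hp) := by rw [hTL]; exact hA
  obtain ⟨z', k', g', h1, h2, h3, h4, h5⟩ := pair_reduction (tow hp cs hk 2) C' hA' hG Fσ' hσx (z := z⁻¹) (t := t)
    (by rw [ht]; group) ht' (fun k' g' F' htt m hm => by
      have h1 := fun a => F'.mem_Sx C' ht' htt a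
      rw [hTL, hXL] at F'
      rw [hXL] at hm ⊢
      exact lang_fr hp cs (by omega : 0 < e) (hσ.conj_mul k') F' (S := Sx cs hp.isCartan (ch hp) t) (fun a ha => ha.1)
        (fun a ha => (h1 a).2 ha) hm)
  rw [hTL, hXL] at h3
  have hfin := finite_conj h2
  have hf1 : Finite ↥(fixC (MulAut.conj k' * σ) t) := Finite.of_injective (Subgroup.inclusion (fixC_le _ _))
    (Subgroup.inclusion_injective _)
  have hf2 : Finite ↥(fixC σ x) := Finite.of_injective (Subgroup.inclusion (fixC_le _ _))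
    (Subgroup.inclusion_injective _)
  obtain ⟨V, a1, a2, a3⟩ := endNorm2 hp cs hk hq hqr hz htq he (hσ.conj_mul k') h3 h4 h5 hne
  exact H605.Exc.FixNorm.transport h1 h2 a1 a2 a3

end Cfsg.Agent.H696.FixNorm2
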