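import Cfsg.Agent.H696.GmnTwE6
import Cfsg.Agent.H142.GmnFive

/-!
# Guralnick-Malle-Navarro row: `²E₆(q)`

`rowS_te6` : `RowS p ²E₆(q)` for an odd prime `p` not dividing `q`.
-/

set_option autoImplicit false

namespace Cfsg.Agent.H696.GmnTe6

open CoxeterSystem Subgroup Cfsg Cfsg.Lie Cfsg.Lie.ChevalleyDatum
open Cfsg.Agent.BpExc Cfsg.Agent.BpExc.TowChev Cfsg.Agent.BpExc.LangFr Cfsg.Agent.BpExc.RowsUntw
open Cfsg.Agent.H696.GmnUntw Cfsg.Agent.H696.GmnTwE6 Cfsg.Agent.H712.Gmn Cfsg.Agent.H720.TwFr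

theorem cube_three : ∀ x : ZMod 3, x ^ 3 = 1 → x = 1 := by decide
theorem cube_five : ∀ x : ZMod 5, x ^ 3 = 1 → x = 1 := by decide

variable {K : Type} [Field K] [Fintype K] {q r n p : ℕ} [Fact r.Prime] [CharP K r] [Fact p.Prime]

theorem rowS_te6 (hp2 : p ≠ 2) (hpr : p ≠ r) (hn0 : 0 < n) (hn : q = r ^ n) (hK : Fintype.card K = q ^ 2)
    (hd : p ∣ Nat.card ↥(twistedE6 K q)) : RowS p ↥(twistedE6 K q) := by
  have hpp : p.Prime := Fact.out
  have hq : IsPrimePow q := (isPrimePow_nat_iff _).2 ⟨r, n, Fact.out, hn0, hn.symm⟩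
  have hs := S1070.result hq hK
  have hsimple : IsSimpleGroup ↥(twistedE6 K q) := hs.1
  have hna : ¬ ∀ x y : ↥(twistedE6 K q), x * y = y * x := fun h => hs.2 ⟨⟨h⟩⟩
  have hZS : center ↥(twistedE6 K q) = ⊥ := center_eq_bot_of_simple hs
  have hk : LocFin (AlgebraicClosure (ZMod r)) := locFin_of_isAlgebraic r _
  have hZ : center ↥(chevE6.group (AlgebraicClosure (ZMod r))) = ⊥ :=
    center_eq_bot_of_simple (S1054.result chevE6 (by simp))
  obtain ⟨f⟩ := exists_emb r K
  by_cases h7 : 7 ≤ p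
  · exact GmnAbel.rowS_of_weyl hp6 hk r hpr (H778.Exc.W_E6 h7) (by omega) hna hd
      (BpExc.FamTw.Six.em_injective (q := q) f)
  have hp35 : p = 3 ∨ p = 5 := by
    have h2 := hpp.two_le
    interval_cases p
    · exact absurd rfl hp2
    · exact Or.inl rfl
    · exact absurd hpp (by norm_num)
    · exact Or.inr rfl
    · exact absurd hpp (by norm_num)
  by_cases hpq : p ∣ q + 1
  · obtain ⟨v, H⟩ := setup f hn0 hn hK hpq CoxeterMatrix.E₆.toCoxeterSystem
    rcases hp35 with rfl | rfl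
    · exact GmnThree.rowS_three hk r hp6 _ (Ne.symm hpr) hZ hZS hd H
    · exact H142.GmnFive.rowS_five hk r (Ne.symm hpr) _ hZS H
  · refine RowS.of_powConj hZS hd fun z hz1 hz => ?_
    have h1 := isConj_tw hpr hn0 hn hK hz
    set e : ℤ := (-(q : ℤ)) ^ Nat.gcd 3 (q + 1) with he
    have hp0 : (p : ℤ) ≠ 0 := by exact_mod_cast hpp.ne_zero
    refine ⟨(e % p).toNat, ?_, ?_⟩
    · intro h2
      have h3 : ((e % p).toNat : ℤ) ≡ 1 [ZMOD p] := by exact_mod_cast (Int.natCast_modEq_iff.2 h2)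
      rw [Int.toNat_of_nonneg (Int.emod_nonneg _ hp0)] at h3
      have h4 : e ≡ 1 [ZMOD p] := (Int.mod_modEq e p).symm.trans h3
      have h5 : ((e : ℤ) : ZMod p) = 1 := by
        have := (ZMod.intCast_eq_intCast_iff e 1 p).2 h4
        rwa [Int.cast_one] at this
      have h6 : (-(q : ZMod p)) ^ 3 = 1 := by
        obtain ⟨c, hc⟩ := Nat.gcd_dvd_left 3 (q + 1)
        rw [he] at h5
        push_cast at h5
        have h7 : (-(q : ZMod p)) ^ 3 = ((-(q : ZMod p)) ^ Nat.gcd 3 (q + 1)) ^ c := by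
          rw [← pow_mul]; exact congrArg _ hc
        rw [h7, h5, one_pow]
      have h7 : -(q : ZMod p) = 1 := by
        rcases hp35 with rfl | rfl
        · exact cube_three _ h6
        · exact cube_five _ h6
      apply hpq
      rw [← ZMod.natCast_eq_zero_iff]
      push_cast
      rw [← h7]; ring
    · have h2 : z ^ (e % p).toNat = z ^ e := by
        rw [← zpow_natCast, Int.toNat_of_nonneg (Int.emod_nonneg _ hp0)]
        conv_rhs => rw [← Int.mul_ediv_add_emod e p, zpow_add, zpow_mul, zpow_natCast, hz, one_zpow, one_mul]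
      rw [h2]
      exact h1

end Cfsg.Agent.H696.GmnTe6
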